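/-
Blackburn: `p`-groups of rank two for odd `p`.
-/
import Cfsg.Agent.Lib.PGrp.Rank2
import Cfsg.Agent.Lib.PGrp.MaxClass
import Cfsg.Agent.Lib.Fus3.Newton

set_option autoImplicit false
set_option linter.unusedSectionVars false

namespace Cfsg.Lib.PGrp

open Subgroup
open scoped commutatorElement

universe u

variable {G : Type*} [Group G]

theorem conj_eq_mul_dl (x y : G) : x * y * x⁻¹ = y * dl x y := by simp [dl]

theorem dl_eq_one_iff {x y : G} : dl x y = 1 ↔ Commute x y := by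
  rw [dl, inv_mul_eq_one, eq_mul_inv_iff_mul_eq, Commute, SemiconjBy, eq_comm]

theorem dl_mul (x a b : G) : dl x (a * b) = b⁻¹ * dl x a * b * dl x b := by simp [dl, mul_assoc]

theorem dl_pow_of_commute {x a : G} (h : Commute a (dl x a)) (k : ℕ) : dl x (a ^ k) = dl x a ^ k := by
  rw [dl, ← conj_pow, conj_eq_mul_dl, h.mul_pow, inv_mul_cancel_left]

/-- Newton's formula for a chain of length three. -/
theorem conj_pow_three {x u v w z : G} (h1 : dl x u = v) (h2 : dl x v = w) (h3 : dl x w = z) (h4 : dl x z = 1)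
    (c1 : Commute v w) (c3 : Commute w z) (k : ℕ) :
    dl (x ^ k) u = v ^ k * w ^ k.choose 2 * z ^ k.choose 3 := by
  have key : ∀ k : ℕ, x ^ k * u * (x ^ k)⁻¹ = u * (v ^ k * w ^ k.choose 2 * z ^ k.choose 3) := by
    intro k
    induction k with
    | zero => simp
    | succ k ih =>
      have e : x ^ (k + 1) * u * (x ^ (k + 1))⁻¹ = x * (x ^ k * u * (x ^ k)⁻¹) * x⁻¹ := by rw [pow_succ']; group
      have e2 : ∀ a b c d : G, x * (a * (b * c * d)) * x⁻¹ =
          x * a * x⁻¹ * (x * b * x⁻¹ * (x * c * x⁻¹) * (x * d * x⁻¹)) := fun a b c d => by group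
      rw [e, ih, e2, ← conj_pow, ← conj_pow, ← conj_pow, conj_eq_mul_dl x u, conj_eq_mul_dl x v, conj_eq_mul_dl x w,
        conj_eq_mul_dl x z, h1, h2, h3, h4, mul_one, c1.mul_pow, c3.mul_pow, Nat.choose_succ_succ' k 1,
        Nat.choose_succ_succ' k 2, Nat.choose_one_right, pow_succ', pow_add, pow_add]
      simp only [mul_assoc]
  rw [dl, key, inv_mul_cancel_left]

variable [Finite G] {p : ℕ} [hp : Fact p.Prime]

theorem isCyclic_commutator_of_central_quotient (T : Subgroup G) [T.Normal] (hTZ : T ≤ center G)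
    (h : IsMetacyclic (G ⧸ T)) : IsCyclic (_root_.commutator G) := by
  obtain ⟨a', b', h1, h2⟩ := isMetacyclic_iff.1 h
  obtain ⟨a, rfl⟩ := QuotientGroup.mk'_surjective T a'
  obtain ⟨b, rfl⟩ := QuotientGroup.mk'_surjective T b'
  have hN : (T ⊔ zpowers a).Normal := by
    rw [← QuotientGroup.comap_map_mk', MonoidHom.map_zpowers]
    exact h1.comap _
  have hab : T ⊔ zpowers a ⊔ zpowers b = ⊤ := by
    rw [sup_assoc, ← QuotientGroup.comap_map_mk', Subgroup.map_sup, MonoidHom.map_zpowers,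
      MonoidHom.map_zpowers, h2, comap_top]
  have hTa : a ∈ centralizer (T : Set G) := by rw [centralizer_eq_top_of_le_center hTZ]; trivial
  have hNc : IsMulCommutative ↥(T ⊔ zpowers a) :=
    isMulCommutative_sup_zpowers (isMulCommutative_of_le inferInstance hTZ) hTa
  have haN : a ∈ T ⊔ zpowers a := mem_sup_right (mem_zpowers a)
  have hbN : b ∈ normalizer ((T ⊔ zpowers a : Subgroup G) : Set G) := (normalizer_eq_top_iff.2 hN).ge trivial
  refine isCyclic_of_le' (C := zpowers ⁅b, a⁆) inferInstance fun c hc => ?_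
  obtain ⟨n, hn, rfl⟩ := exists_commutator_eq hNc hab hc
  obtain ⟨t, ht, k, rfl⟩ := (mem_sup_zpowers_of_mem_normalizer (centralizer_le_normalizer _ hTa)).1 hn
  obtain ⟨m, hm⟩ := exists_pow_eq_of_mem_zpowers (zpow_mem_zpowers a k)
  have := commute_of_mem_center (hTZ ht)
  have e : ⁅b, t * a ^ k⁆ = ⁅b, a ^ k⁆ := by
    rw [commutatorElement_def, commutatorElement_def]
    calc b * (t * a ^ k) * b⁻¹ * (t * a ^ k)⁻¹ = b * t * a ^ k * b⁻¹ * (a ^ k)⁻¹ * t⁻¹ := by group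
      _ = t * (b * a ^ k * b⁻¹ * (a ^ k)⁻¹) * t⁻¹ := by rw [← (this b).eq]; group
      _ = _ := by rw [(this _).eq]; group
  rw [e, ← hm, commutator_pow_right_of_comm hNc hbN haN]
  exact npow_mem_zpowers _ _

theorem pCentral_comm_aux (hp2 : p ≠ 2) (hG : IsPGroup p G) (hc : ∀ y : G, y ^ p = 1 → y ∈ center G) (n : ℕ) :
    ∀ H : Subgroup G, Nat.card H = n → ∀ x ∈ H, (∀ g ∈ H, Commute (x ^ p) g) → ∀ g ∈ H, ⁅x, g⁆ ^ p = 1 := by
  induction n using Nat.strong_induction_on with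
  | _ n ih =>
  intro H hn x hx hxp g hg
  by_cases h : zpowers x = H
  · obtain ⟨k, rfl⟩ := mem_zpowers_iff.1 (h ▸ hg : g ∈ zpowers x)
    rw [commutatorElement_eq_one_iff_commute.2 (Commute.self_zpow x k), one_pow]
  have hHp := hG.to_subgroup H
  obtain ⟨K, hK, hi, hKn⟩ := exists_index_eq_of_ne_top hHp (H := (zpowers x).subgroupOf H)
    (fun e => h (le_antisymm (zpowers_le.2 hx) (subgroupOf_eq_top.1 e)))
  have hxK : (⟨x, hx⟩ : H) ∈ K := hK (mem_zpowers x)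
  have hlt : Nat.card (K.map H.subtype) < n := by
    rw [card_map_of_injective H.subtype_injective, ← hn]
    exact card_lt_of_ne_top fun e => hp.out.one_lt.ne' (by rw [← hi, e, index_top])
  have h1 : x ∈ K.map H.subtype := ⟨_, hxK, rfl⟩
  have h2 : g * x⁻¹ * g⁻¹ ∈ K.map H.subtype := ⟨_, hKn.conj_mem _ (K.inv_mem hxK) ⟨g, hg⟩, rfl⟩
  have h3 := ih _ hlt _ rfl x h1 (fun y hy => hxp y (map_subtype_le K hy)) _ h2
  have h4 : ⁅g * x⁻¹ * g⁻¹, x⁆ ^ p = 1 := by rw [← commutatorElement_inv, inv_pow, h3, inv_one]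
  have h5 := commute_of_mem_center (hc _ h4)
  have e : ⁅x, g⁆ = x * (g * x⁻¹ * g⁻¹) := by rw [commutatorElement_def]; group
  rw [e, mul_pow_eq_of_odd (h5 _) (h5 _) (hp.out.odd_of_ne_two hp2) h4, conj_pow, inv_pow,
    ← (hxp g hg).inv_left.eq]
  group

theorem isMetacyclic_of_pCentral_aux (hp2 : p ≠ 2) (n : ℕ) : ∀ (G : Type u) [Group G] [Finite G], Nat.card G = n →
    IsPGroup p G → (∀ y : G, y ^ p = 1 → y ∈ center G) → Nat.card (omegaOne p (⊤ : Subgroup G)) ≤ p ^ 2 →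
    IsMetacyclic G := by
  induction n using Nat.strong_induction_on with
  | _ n ih =>
  intro G _ _ hn hG hc hO
  obtain ⟨W, hW⟩ : ∃ W, W = omegaOne p (⊤ : Subgroup G) := ⟨_, rfl⟩
  have hWc : W ≤ center G := hW ▸ omegaOne_le_iff.2 fun y _ hy => hc y hy
  have hmem : ∀ y, y ∈ W ↔ y ^ p = 1 := fun y => ⟨fun hy => by
    have := pow_eq_one_of_mem_omegaOne_of_comm (n := p) (A := center G) inferInstance y
    refine this ?_
    rw [hW] at hy
    exact omegaOne_le_iff.2 (fun z _ hz => mem_omegaOne_of_pow (hc z hz) hz) hy,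
    fun hy => hW ▸ mem_omegaOne_of_pow trivial hy⟩
  by_cases h1 : (⊤ : Subgroup G) = ⊥
  · exact isMetacyclic_of_isCyclic (isCyclic_top_iff.1 (h1 ▸ inferInstance))
  have hW1 : W ≠ ⊥ := hW ▸ omegaOne_ne_bot (hG.to_subgroup _) h1
  have := normal_of_le_center hWc
  have hcm : ∀ x : G, x ^ p ∈ W → ∀ g, ⁅x, g⁆ ∈ W := fun x hx g => (hmem _).2
    (pCentral_comm_aux hp2 hG hc _ ⊤ rfl x trivial (fun g _ => commute_of_mem_center (hWc hx) g) g trivial)
  have hq : ∀ y : G ⧸ W, y ^ p = 1 → y ∈ center (G ⧸ W) := fun y hy => by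
    obtain ⟨x, rfl⟩ := QuotientGroup.mk_surjective y
    exact (mk_mem_center_iff W x).2 (hcm x ((QuotientGroup.eq_one_iff _).1 hy))
  refine isMetacyclic_of_isCyclic_commutator hp2 hG (isCyclic_commutator_of_central_quotient W hWc
    (ih _ ?_ _ rfl (hG.to_quotient W) hq ?_)) hO
  · rw [← hn, card_eq_card_quotient_mul_card_subgroup W]
    exact lt_mul_of_one_lt_right Nat.card_pos ((one_lt_card_iff_ne_bot _).2 hW1)
  · refine le_trans ?_ (hW ▸ hO : Nat.card W ≤ p ^ 2)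
    have hq1 : ∀ y ∈ omegaOne p (⊤ : Subgroup (G ⧸ W)), y ^ p = 1 := fun y hy =>
      pow_eq_one_of_mem_omegaOne_of_comm (n := p) (A := center (G ⧸ W)) inferInstance y
        (omegaOne_le_iff.2 (fun z _ hz => mem_omegaOne_of_pow (hq z hz) hz) hy)
    have hq2 : ∀ y : omegaOne p (⊤ : Subgroup (G ⧸ W)), (Quotient.out y.1) ^ p ∈ W := fun y => by
      rw [← QuotientGroup.eq_one_iff, QuotientGroup.mk_pow, QuotientGroup.out_eq']; exact hq1 y y.2
    refine Nat.card_le_card_of_injective (fun y => (⟨_, hq2 y⟩ : W)) fun y y' e => ?_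
    have e1 : (Quotient.out y.1) ^ p = (Quotient.out y'.1) ^ p := congrArg Subtype.val e
    have h4 := hcm _ (hq2 y') (Quotient.out y.1)⁻¹
    have h5 := commute_of_mem_center (hWc h4)
    have h6 : ((Quotient.out y.1)⁻¹ * Quotient.out y'.1) ^ p = 1 := by
      rw [mul_pow_eq_of_odd (h5 _) (h5 _) (hp.out.odd_of_ne_two hp2) ((hmem _).1 h4), inv_pow, e1, inv_mul_cancel]
    ext
    rw [← QuotientGroup.out_eq' y.1, ← QuotientGroup.out_eq' y'.1]
    exact QuotientGroup.eq.2 ((hmem _).2 h6)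

/-- A `p`-central group of rank at most two is metacyclic. -/
theorem isMetacyclic_of_pCentral (hp2 : p ≠ 2) (hG : IsPGroup p G) (hc : ∀ y : G, y ^ p = 1 → y ∈ center G)
    (hO : Nat.card (omegaOne p (⊤ : Subgroup G)) ≤ p ^ 2) : IsMetacyclic G :=
  isMetacyclic_of_pCentral_aux hp2 _ G rfl hG hc hO

/-- A regular maximal subgroup `M` with `W = Ω₁(M)` of order `p ^ 2`, moved by `x ∉ M`. -/
structure Bl (p : ℕ) (M W : Subgroup G) (x : G) : Prop where
  hG : IsPGroup p G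
  two : p ≠ 2
  idx : M.index = p
  reg : WeakReg p M
  mem : ∀ y, y ∈ W ↔ y ∈ M ∧ y ^ p = 1
  card : Nat.card W = p ^ 2
  nx : x ∉ M
  nc : x ∉ centralizer (W : Set G)

namespace Bl

variable {M W : Subgroup G} {x : G}

theorem nM (h : Bl p M W x) : M.Normal := normal_of_index_eq h.hG h.idx

theorem nW (h : Bl p M W x) : W.Normal := ⟨fun w hw g => (h.mem _).2
  ⟨h.nM.conj_mem _ ((h.mem _).1 hw).1 g, by rw [conj_pow, ((h.mem _).1 hw).2]; simp⟩⟩

theorem le (h : Bl p M W x) : W ≤ M := fun _ hw => ((h.mem _).1 hw).1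

theorem pow (h : Bl p M W x) {w : G} (hw : w ∈ W) : w ^ p = 1 := ((h.mem _).1 hw).2

theorem comm (h : Bl p M W x) : IsMulCommutative W := isMulCommutative_of_card_le_sq (h.hG.to_subgroup _) h.card.le

theorem dl_mem {N : Subgroup G} (hN : N.Normal) (g : G) {y : G} (hy : y ∈ N) : dl g y ∈ N :=
  N.mul_mem (N.inv_mem hy) (hN.conj_mem _ hy g)

theorem dl_center (h : Bl p M W x) (g : G) {w : G} (hw : w ∈ W) : dl g w ∈ center G := by
  have := h.nW
  rw [dl_eq]
  exact mem_upperCentralSeries_two_iff.1 (le_upperCentralSeries_two_of_card_le h.hG W h.card.le (W.inv_mem hw)) g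

theorem card_cent (h : Bl p M W x) : Nat.card ↥(W ⊓ centralizer {x}) ≤ p := by
  have : W ⊓ centralizer {x} < W := lt_of_le_of_ne inf_le_left fun e => h.nc fun w hw =>
    (mem_centralizer_singleton_iff.1 (e.ge hw).2)
  have h2 := mul_card_le_of_lt (h.hG.to_subgroup _) this
  rw [h.card, pow_two] at h2
  exact Nat.le_of_mul_le_mul_left h2 hp.out.pos

theorem card_center (h : Bl p M W x) : Nat.card ↥(W ⊓ center G) = p ∧ W ⊓ center G = W ⊓ centralizer {x} := by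
  have := h.nW
  have h1 : W ⊓ center G ≤ W ⊓ centralizer {x} := inf_le_inf_left _ (center_le_centralizer _)
  have h2 : W ⊓ center G ≠ ⊥ := inf_center_ne_bot h.hG W fun e => by
    have := h.card
    rw [e, card_bot] at this
    exact (Nat.one_lt_pow two_ne_zero hp.out.one_lt).ne this
  have h3 := (eq_bot_or_card_eq (h.hG.to_subgroup _) ((card_le_of_le h1).trans h.card_cent)).resolve_left h2
  exact ⟨h3, eq_of_le_of_card_le h1 (h3.symm ▸ h.card_cent)⟩

theorem mem_center (h : Bl p M W x) {w : G} (hw : w ∈ W) (hc : Commute x w) : w ∈ center G :=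
  (h.card_center.2.ge ⟨hw, mem_centralizer_singleton_iff.2 hc.symm.eq⟩).2

theorem pow_iff (h : Bl p M W x) {a b : G} (ha : a ∈ M) (hb : b ∈ M) : a ^ p = b ^ p ↔ a⁻¹ * b ∈ W := by
  rw [h.mem, and_iff_right (M.mul_mem (M.inv_mem ha) hb)]
  simpa [Subtype.ext_iff] using h.reg.pow_eq_iff_one (h.hG.to_subgroup M) ⟨a, ha⟩ ⟨b, hb⟩

theorem mem_zpowers (h : Bl p M W x) {a b : G} (ha : a ∈ W) (ha' : a ∈ center G) (h1 : a ≠ 1) (hb : b ∈ W)
    (hb' : b ∈ center G) : b ∈ zpowers a := by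
  have : zpowers a = W ⊓ center G := eq_of_le_of_card_le (zpowers_le.2 ⟨ha, ha'⟩) (by
    rw [h.card_center.1, Nat.card_zpowers, orderOf_eq_prime (h.pow ha) h1])
  exact this.ge ⟨hb, hb'⟩

theorem cent_le (h : Bl p M W x) {v : G} (hv : v ∈ M) (h1 : v ^ p ∈ W) (h2 : v ^ p ∈ center G)
    (h3 : dl x v ∉ center G) : Nat.card (centralizer ({x} : Set G)) ≤ p ^ 2 := by
  have key : centralizer ({x} : Set G) ⊓ M ≤ W ⊓ centralizer {x} := by
    rintro g ⟨hg, hgM⟩
    refine ⟨by_contra fun hW => h3 ?_, hg⟩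
    obtain ⟨n, hn⟩ := h.hG g
    obtain ⟨k, k1, k2⟩ := exists_pow_not_mem_pow_mem hn hW
    have hc : Commute x g := (mem_centralizer_singleton_iff.1 hg).symm
    have k3 : (g ^ k) ^ p ≠ 1 := fun e => k1 ((h.mem _).2 ⟨M.pow_mem hgM _, e⟩)
    obtain ⟨j, hj⟩ := exists_pow_eq_of_mem_zpowers
      (h.mem_zpowers k2 (h.mem_center k2 ((hc.pow_right _).pow_right _)) k3 h1 h2)
    rw [← pow_mul, mul_comm p j, pow_mul] at hj
    have k4 := h.dl_center x ((h.pow_iff (M.pow_mem (M.pow_mem hgM _) _) hv).1 hj)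
    rwa [dl_mul, dl_eq_one_iff.2 ((hc.pow_right _).pow_right _).inv_right, mul_one, inv_mul_cancel, one_mul] at k4
  refine (card_le_card_inf_mul_index M _).trans ?_
  rw [h.idx, pow_two]
  exact Nat.mul_le_mul_right _ ((card_le_of_le key).trans h.card_cent)

theorem pow_choose_two (h : Bl p M W x) {w : G} (hw : w ∈ W) : w ^ p.choose 2 = 1 := by
  obtain ⟨k, hk⟩ := dvd_choose_two_of_odd (hp.out.odd_of_ne_two h.two)
  rw [hk, pow_mul, h.pow hw, one_pow]

theorem chain (h : Bl p M W x) {u : G} (hu : u ∈ M) (hx : Commute (x ^ p) u) (h1 : dl x u ^ p ∈ W)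
    (h2 : dl x u ^ p ∈ center G) (h3 : dl x (dl x u) ∈ W) (h4 : Commute (dl x u) (dl x (dl x u))) :
    dl x u ∈ W ∨ (p = 3 ∧ Nat.card (centralizer ({x} : Set G)) ≤ p ^ 2) := by
  have hz := h.dl_center x h3
  have hzW := dl_mem h.nW x h3
  have e := conj_pow_three rfl rfl rfl (dl_eq_one_iff.2 (commute_of_mem_center hz x).symm) h4
    (commute_of_mem_center hz _).symm p
  rw [dl_eq_one_iff.2 hx, h.pow_choose_two h3, mul_one] at e
  refine or_iff_not_imp_left.2 fun hv => ?_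
  have hne : dl x (dl x (dl x u)) ^ p.choose 3 ≠ 1 := fun e' =>
    hv ((h.mem _).2 ⟨dl_mem h.nM x hu, by rw [e', mul_one] at e; exact e.symm⟩)
  refine ⟨by_contra fun h3 => hne ?_, h.cent_le (dl_mem h.nM x hu) h1 h2 fun hc => hne ?_⟩
  · have := hp.out.two_le
    have := h.two
    obtain ⟨k, hk⟩ := hp.out.dvd_choose_self (k := 3) (by norm_num) (by omega)
    rw [hk, pow_mul, h.pow hzW, one_pow]
  · rw [dl_eq_one_iff.2 (commute_of_mem_center hc x).symm, one_pow]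

theorem exists_not_center (h : Bl p M W x) : ∃ w ∈ W, w ∉ center G := by
  by_contra hc
  push Not at hc
  exact h.nc fun w hw => (commute_of_mem_center (hc w hw) x).eq

theorem three (h : Bl p M W x) (hr : ∀ w ∈ W, ∃ u ∈ M, u ^ p = w)
    (hH : ∀ u ∈ M, ∀ u' ∈ M, u ^ p ∈ W → u' ^ p ∈ W → Commute (u ^ p) u')
    (hx : ∀ u ∈ M, u ^ p ∈ W → Commute (x ^ p) u) : p = 3 ∧ Nat.card (centralizer ({x} : Set G)) ≤ p ^ 2 := by
  have hc : ∀ w ∈ W, ∀ u ∈ M, u ^ p ∈ W → Commute w u := fun w hw u hu hu' => by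
    obtain ⟨t, ht, rfl⟩ := hr w hw
    exact hH t ht u hu hw hu'
  have hd : ∀ u ∈ M, u ^ p ∈ W → dl x u ^ p = dl x (u ^ p) := fun u hu hu' => by
    have h1 := h.nM.conj_mem _ hu x
    have h2 : (x * u * x⁻¹) ^ p ∈ W := by rw [conj_pow]; exact h.nW.conj_mem _ hu' x
    have h3 : u⁻¹ ^ p ∈ W := by rw [inv_pow]; exact W.inv_mem hu'
    have h4 : ⁅x * u * x⁻¹, u⁻¹⁆ ^ p = 1 := by
      have := (h.reg.commute_pow_iff (h.hG.to_subgroup M) 1 ⟨_, h1⟩ ⟨_, M.inv_mem hu⟩).1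
        (Subtype.ext (by simpa using (hH _ h1 _ (M.inv_mem hu) h2 h3).eq))
      simpa [Subtype.ext_iff, commutatorElement_def] using this
    have h5 : ⁅x * u * x⁻¹, u⁻¹⁆ ∈ W := (h.mem _).2 ⟨by
      rw [commutatorElement_def]
      exact M.mul_mem (M.mul_mem (M.mul_mem h1 (M.inv_mem hu)) (M.inv_mem h1)) (M.inv_mem (M.inv_mem hu)), h4⟩
    rw [dl, mul_pow_eq_of_odd (hc _ h5 _ (M.inv_mem hu) h3) (hc _ h5 _ h1 h2) (hp.out.odd_of_ne_two h.two) h4, dl,
      conj_pow, inv_pow]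
  obtain ⟨w, hw, hw'⟩ := h.exists_not_center
  obtain ⟨u, hu, rfl⟩ := hr w hw
  have hv := dl_mem h.nM x hu
  have h1 : dl x u ^ p ∈ W := hd u hu hw ▸ dl_mem h.nW x hw
  have h2 : dl x u ^ p ∈ center G := hd u hu hw ▸ h.dl_center x hw
  have h3 : dl x (dl x u) ∈ W := (h.mem _).2 ⟨dl_mem h.nM x hv, by
    rw [hd _ hv h1, dl_eq_one_iff.2 (commute_of_mem_center h2 x).symm]⟩
  refine (h.chain hu (hx u hu hw) h1 h2 h3 (hc _ h3 _ hv h1).symm).resolve_left fun h4 => hw' ?_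
  exact h.mem_center hw (dl_eq_one_iff.1 (hd u hu hw ▸ h.pow h4))

theorem pow_mem (h : Bl p M W x) (g : G) : g ^ p ∈ M :=
  have := h.nM
  (commutator_le_and_pow_mem_of_index_eq M h.idx).2 g

theorem mem_iff (h : Bl p M W x) {a y : G} : y ∈ W ⊔ zpowers a ↔ ∃ w ∈ W, ∃ k : ℕ, y = w * a ^ k := by
  have := h.nW
  rw [mem_sup_zpowers_of_mem_normalizer ((normalizer_eq_top_iff.2 this).ge trivial)]
  refine ⟨fun ⟨w, hw, k, e⟩ => ?_, fun ⟨w, hw, k, e⟩ => ⟨w, hw, k, by rw [e, zpow_natCast]⟩⟩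
  obtain ⟨m, hm⟩ := exists_pow_eq_of_mem_zpowers (zpow_mem_zpowers a k)
  exact ⟨w, hw, m, by rw [e, hm]⟩

theorem dl_mul' (h : Bl p M W x) (hM : IsMulCommutative M) (g : G) {a b : G} (ha : a ∈ M) (hb : b ∈ M) :
    dl g (a * b) = dl g a * dl g b := by
  rw [dl_mul, mul_assoc b⁻¹, comm_of_mem hM (dl_mem h.nM g ha) hb, inv_mul_cancel_left]

theorem dl_pow' (h : Bl p M W x) (hM : IsMulCommutative M) (g : G) {a : G} (ha : a ∈ M) (k : ℕ) :
    dl g (a ^ k) = dl g a ^ k := dl_pow_of_commute (comm_of_mem hM ha (dl_mem h.nM g ha)) k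

theorem ab (h : Bl p M W x) (hM : IsMulCommutative M) {a : G} (ha : W ⊔ zpowers a = M) :
    dl x a ∈ W ∨ (p = 3 ∧ Nat.card (centralizer ({x} : Set G)) ≤ p ^ 2) := by
  have haM : a ∈ M := ha ▸ mem_sup_right (Subgroup.mem_zpowers a)
  have hc := dl_mem h.nM x haM
  have h1 : x ∈ normalizer (zpowers (a ^ p) : Set G) := mem_normalizer_zpowers (by
    obtain ⟨w, hw, k, e⟩ := h.mem_iff.1 (ha.ge (h.nM.conj_mem _ haM x))
    rw [← conj_pow, e, Commute.mul_pow (comm_of_mem hM (h.le hw) (M.pow_mem haM _)), h.pow hw, one_mul, ← pow_mul,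
      mul_comm, pow_mul]
    exact npow_mem_zpowers _ _)
  obtain ⟨h2, h3, -⟩ := commutator_pow_eq_one_of_normalizes_zpowers h.two h.hG h1
    fun y hy => comm_of_mem hM (zpowers_le.2 (M.pow_mem haM _) hy) (h.pow_mem x)
  have e : ⁅x, a ^ p⁆ = dl x a ^ p := by
    rw [← h.dl_pow' hM x haM, dl, commutatorElement_def,
      comm_of_mem hM (h.nM.conj_mem _ (M.pow_mem haM _) x) (M.inv_mem (M.pow_mem haM _))]
  rw [e] at h2 h3
  have h4 : dl x a ^ p ∈ W := (h.mem _).2 ⟨M.pow_mem hc _, h2⟩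
  exact h.chain haM (comm_of_mem hM (h.pow_mem x) haM) h4 (h.mem_center h4 h3.symm)
    ((h.mem _).2 ⟨dl_mem h.nM x hc, by rw [← h.dl_pow' hM x hc, dl_eq_one_iff.2 h3.symm]⟩)
    (comm_of_mem hM hc (dl_mem h.nM x hc))

theorem omega_le (h : Bl p M W x) (hx : ∀ y ∉ M, y ^ p ≠ 1) : omegaOne p (⊤ : Subgroup G) ≤ W :=
  omegaOne_le_iff.2 fun y _ hy => (h.mem _).2 ⟨by_contra fun hm => hx y hm hy, hy⟩

theorem commutator_le (h : Bl p M W x) (hM : IsMulCommutative M) {a : G} (ha : W ⊔ zpowers a = M)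
    (h1 : dl x a ∈ W) (h2 : dl x a ∈ center G) : _root_.commutator G ≤ W ⊓ center G := by
  have := h.nM
  have haM : a ∈ M := ha ▸ mem_sup_right (Subgroup.mem_zpowers a)
  intro c hc
  obtain ⟨m, hm, rfl⟩ := exists_commutator_eq hM (sup_zpowers_eq_top_of_index_eq h.hG h.idx h.nx) hc
  have e : ⁅x, m⁆ = dl x m := by
    rw [dl, commutatorElement_def, comm_of_mem hM (h.nM.conj_mem _ hm x) (M.inv_mem hm)]
  obtain ⟨w, hw, k, rfl⟩ := h.mem_iff.1 (ha.ge hm)
  rw [e, h.dl_mul' hM x (h.le hw) (M.pow_mem haM _), h.dl_pow' hM x haM]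
  exact mul_mem ⟨dl_mem h.nW x hw, h.dl_center x hw⟩ (Subgroup.pow_mem _ (mem_inf.2 ⟨h1, h2⟩) _)

theorem mem_center_of_comm (h : Bl p M W x) (hM : IsMulCommutative M) {m : G} (hm : m ∈ M) (hc : Commute x m) :
    m ∈ center G := by
  have : M ⊔ zpowers x ≤ centralizer {m} := sup_le
    (fun y hy => mem_centralizer_singleton_iff.2 (comm_of_mem hM hy hm))
    (zpowers_le.2 (mem_centralizer_singleton_iff.2 hc.eq))
  rw [sup_zpowers_eq_top_of_index_eq h.hG h.idx h.nx] at this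
  exact mem_center_iff.2 fun g => mem_centralizer_singleton_iff.1 (this trivial)

theorem isMetacyclic_of_le (h : Bl p M W x) (hx : ∀ y ∉ M, y ^ p ≠ 1) (hc : _root_.commutator G ≤ W ⊓ center G) :
    IsMetacyclic G :=
  isMetacyclic_of_isCyclic_commutator h.two h.hG (isCyclic_of_card_le (h.hG.to_subgroup _)
    ((card_le_of_le hc).trans h.card_center.1.le)) ((card_le_of_le (h.omega_le hx)).trans h.card.le)

/-- Either `M / W` is cyclic, or every element of `W` is a `p`-th power. -/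
theorem dich (h : Bl p M W x) : (∃ a, W ⊔ zpowers a = M) ∨ ∀ w ∈ W, ∃ u ∈ M, u ^ p = w := by
  have hMp := h.hG.to_subgroup M
  have key : ∀ g, g ∈ powerClosure p 1 M ↔ ∃ u ∈ M, u ^ p = g := fun g => by
    constructor
    · intro hg
      have : powerClosure p 1 M = (powerClosure p 1 (⊤ : Subgroup M)).map M.subtype := by
        rw [map_powerClosure, ← MonoidHom.range_eq_map, range_subtype]
      obtain ⟨g, hg', rfl⟩ := this ▸ hg
      obtain ⟨z, -, rfl⟩ := (h.reg.mem_powerClosure_iff hMp 1 ⊤).1 hg'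
      exact ⟨z, z.2, by simp⟩
    · rintro ⟨u, hu, rfl⟩
      exact pow_mem_powerClosure_one hu
  refine or_iff_not_imp_right.2 fun hn => ?_
  have hlt : W ⊓ powerClosure p 1 M < W := lt_of_le_of_ne inf_le_left fun e => hn fun w hw => (key w).1 (e.ge hw).2
  have h2 := mul_card_le_of_lt (h.hG.to_subgroup _) hlt
  rw [h.card, pow_two] at h2
  obtain ⟨b, hb⟩ := exists_zpowers_eq_of_isCyclic (isCyclic_of_forall_mem h.two (h.hG.to_subgroup _)
    (Nat.le_of_mul_le_mul_left h2 hp.out.pos) fun y hy e => ⟨(h.mem _).2 ⟨powerClosure_le _ _ _ hy, e⟩, hy⟩)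
  obtain ⟨a, ha, rfl⟩ := (key b).1 (hb ▸ Subgroup.mem_zpowers b)
  refine ⟨a, le_antisymm (sup_le h.le (zpowers_le.2 ha)) fun m hm => ?_⟩
  obtain ⟨k, hk⟩ := exists_pow_eq_of_mem_zpowers (hb.ge (pow_mem_powerClosure_one hm))
  rw [← pow_mul, mul_comm, pow_mul] at hk
  have := (h.pow_iff (M.pow_mem ha k) hm).1 hk
  rw [← mul_inv_cancel_left (a ^ k) m]
  exact mul_mem (mem_sup_right (npow_mem_zpowers _ _)) (mem_sup_left this)

end Bl

theorem pow_mem_of_card_cent_le (hG : IsPGroup p G) {Z : Subgroup G} (hZ : Z ≤ center G) (h1 : Z ≠ ⊥) {x : G}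
    (hx : Nat.card (centralizer ({x} : Set G)) ≤ p ^ 2) : x ^ p ∈ Z := by
  by_contra hn
  have := normal_of_le_center hZ
  have l1 : Z < Z ⊔ zpowers (x ^ p) := left_lt_sup.2 fun h => hn (h (mem_zpowers _))
  have l2 : Z ⊔ zpowers (x ^ p) < Z ⊔ zpowers x := by
    refine lt_of_le_of_ne (sup_le_sup_left (zpowers_le.2 (npow_mem_zpowers _ _)) _) fun e => hn ?_
    have h2 : (x : G ⧸ Z) ∈ zpowers ((x : G ⧸ Z) ^ p) := by
      have := mem_map_of_mem (QuotientGroup.mk' Z) (e.ge (mem_sup_right (mem_zpowers x)))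
      rwa [Subgroup.map_sup, map_mk'_eq_bot.2 le_rfl, bot_sup_eq, MonoidHom.map_zpowers] at this
    exact Z.pow_mem ((QuotientGroup.eq_one_iff _).1 (eq_one_of_mem_zpowers_pow (hG.to_quotient Z) h2)) _
  have l3 : Z ⊔ zpowers x ≤ centralizer {x} :=
    sup_le (hZ.trans (center_le_centralizer _)) (zpowers_le.2 (mem_centralizer_singleton_iff.2 rfl))
  have c0 := mul_card_le_of_lt (hG.to_subgroup _) (bot_lt_iff_ne_bot.2 h1)
  have c1 := mul_card_le_of_lt (hG.to_subgroup _) l1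
  have c2 := (mul_card_le_of_lt (hG.to_subgroup _) l2).trans ((card_le_of_le l3).trans hx)
  rw [card_bot, mul_one] at c0
  have := hp.out.one_lt
  have : p * (p * p) ≤ p ^ 2 := (Nat.mul_le_mul_left _ ((Nat.mul_le_mul_left _ c0).trans c1)).trans c2
  nlinarith

theorem blackburn_aux (hp2 : p ≠ 2) (n : ℕ) : ∀ (G : Type u) [Group G] [Finite G], Nat.card G = n → IsPGroup p G →
    PRankLE p 2 G → IsMetacyclic G ∨ (p = 3 ∧ ∃ x : G, Nat.card (centralizer ({x} : Set G)) ≤ p ^ 2) ∨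
      ∃ (M W : Subgroup G) (x a : G), Bl p M W x ∧ IsMulCommutative M ∧ W ⊔ zpowers a = M ∧ x ^ p = 1 := by
  induction n using Nat.strong_induction_on with
  | _ n ih =>
  intro G _ _ hn hG hr
  by_cases hc : IsCyclic G
  · exact .inl (isMetacyclic_of_isCyclic hc)
  obtain ⟨W, -, hWn, hWe, hW⟩ := exists_normal_elem_card_sq hp2 hG ⊤ (mt isCyclic_top_iff.1 hc)
  obtain ⟨M, hM⟩ : ∃ M, M = centralizer (W : Set G) := ⟨_, rfl⟩
  have hWM : W ≤ M := hM ▸ fun w hw y hy => comm_of_mem hWe.1 hy hw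
  have hmem : ∀ y, y ∈ W ↔ y ∈ M ∧ y ^ p = 1 := fun y => ⟨fun hy => ⟨hWM hy, hWe.2 y hy⟩, fun hy =>
    (eq_of_le_of_card_le le_sup_left ((pRankLE_iff.1 hr _
      (isElementaryAbelian_sup_zpowers hWe (hM ▸ hy.1) hy.2)).trans hW.ge)).ge (mem_sup_right (mem_zpowers y))⟩
  have hcm : ∀ w ∈ W, ∀ m ∈ M, Commute w m := fun w hw m hm => (hM ▸ hm : m ∈ centralizer (W : Set G)) w hw
  have hmc : IsMetacyclic M := isMetacyclic_of_pCentral hp2 (hG.to_subgroup M)
    (fun y hy => mem_center_iff.2 fun g => Subtype.ext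
      (hcm y ((hmem y).2 ⟨y.2, congrArg Subtype.val hy⟩) g g.2).symm.eq) (by
      rw [card_omegaOne_top_subgroup]
      exact (card_le_of_le (omegaOne_le_iff.2 fun y h1 h2 => (hmem y).2 ⟨h1, h2⟩)).trans hW.le)
  rcases eq_top_or_index_eq hG (hM ▸ index_centralizer_le_of_card_le_sq hG W hW.le : M.index ≤ p) with ht | hi
  · exact .inl (isMetacyclic_of_surjective M.subtype (fun g => ⟨⟨g, ht.ge trivial⟩, rfl⟩) hmc)
  have hB : ∀ x ∉ M, Bl p M W x := fun x hx =>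
    ⟨hG, hp2, hi, weakReg_of_isMetacyclic hp2 (hG.to_subgroup M) hmc, hmem, hW, hx, hM ▸ hx⟩
  obtain ⟨x₀, hx₀⟩ := exists_not_mem_of_index_eq hi
  have hab : ∀ a, W ⊔ zpowers a = M → IsMulCommutative M := fun a ha =>
    ha ▸ isMulCommutative_sup_zpowers hWe.1 (hM ▸ ha.le (mem_sup_right (mem_zpowers a)))
  have h3 : (∀ w ∈ W, ∃ u ∈ M, u ^ p = w) → ∀ x ∉ M, x ^ p ∈ W →
      p = 3 ∧ ∃ x : G, Nat.card (centralizer ({x} : Set G)) ≤ p ^ 2 := fun h x hx hxp =>
    ((hB x hx).three h (fun u _ u' hu' h1 _ => hcm _ h1 _ hu') fun u hu _ => hcm _ hxp _ hu).imp_right fun h => ⟨x, h⟩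
  by_cases h1 : ∃ x ∉ M, x ^ p = 1
  · obtain ⟨x, hx, hxp⟩ := h1
    rcases (hB x hx).dich with ⟨a, ha⟩ | h
    · exact .inr (.inr ⟨M, W, x, a, hB x hx, hab a ha, ha, hxp⟩)
    · exact .inr (.inl (h3 h x hx (hxp ▸ W.one_mem)))
  push Not at h1
  have hO := (card_le_of_le ((hB x₀ hx₀).omega_le h1)).trans hW.le
  by_cases hp3 : p = 3
  swap
  · exact .inl (isMetacyclic_of_card_omegaOne_le (by have := hp.out.two_le; omega) hG hO)
  by_cases h2 : ∃ x ∉ M, x ^ p ∈ W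
  · obtain ⟨x, hx, hxp⟩ := h2
    have h := hB x hx
    rcases h.dich with ⟨a, ha⟩ | hb
    swap
    · exact .inr (.inl (h3 hb x hx hxp))
    have hMc := hab a ha
    have haM : a ∈ M := ha ▸ mem_sup_right (mem_zpowers a)
    rcases h.ab hMc ha with hc | hc
    swap
    · exact .inr (.inl ⟨hp3, x, hc.2⟩)
    have hz : a ^ p ∈ center G := h.mem_center_of_comm hMc (M.pow_mem haM _)
      (dl_eq_one_iff.1 (by rw [h.dl_pow' hMc x haM, h.pow hc]))
    by_cases h4 : a ^ p ∈ W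
    · by_cases h5 : dl x a ∈ center G
      · exact .inl (h.isMetacyclic_of_le h1 (h.commutator_le hMc ha hc h5))
      · exact .inr (.inl ⟨hp3, x, h.cent_le haM h4 hz h5⟩)
    obtain ⟨m, hm⟩ := hG (a ^ p)
    obtain ⟨k, k1, k2⟩ := exists_pow_not_mem_pow_mem hm h4
    have k3 := (center G).pow_mem hz k
    obtain ⟨j, hj⟩ := exists_pow_eq_of_mem_zpowers (h.mem_zpowers k2 ((center G).pow_mem k3 _)
      (fun e => k1 ((hmem _).2 ⟨M.pow_mem (M.pow_mem haM _) _, e⟩)) hxp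
      (h.mem_center hxp (Commute.self_pow x p)))
    refine absurd ?_ (h1 (x * (((a ^ p) ^ k) ^ j)⁻¹) fun hm => hx ((M.mul_mem_cancel_right
      (M.inv_mem (M.pow_mem (M.pow_mem (M.pow_mem haM _) _) _))).1 hm))
    rw [(commute_of_mem_center ((center G).inv_mem ((center G).pow_mem k3 j)) x).symm.mul_pow, inv_pow, ← pow_mul,
      mul_comm j p, pow_mul, hj, mul_inv_cancel]
  push Not at h2
  have h := hB x₀ hx₀
  obtain ⟨Z, hZ⟩ : ∃ Z, Z = W ⊓ center G := ⟨_, rfl⟩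
  have hZc : Nat.card Z = p := hZ ▸ h.card_center.1
  have hZW : Z ≤ W := hZ ▸ inf_le_left
  have := normal_of_le_center (hZ ▸ inf_le_right : Z ≤ center G)
  have hQ := hG.to_quotient Z
  have hO' : Nat.card (omegaOne p (⊤ : Subgroup (G ⧸ Z))) ≤ p ^ 2 := by
    have e : omegaOne p (⊤ : Subgroup (G ⧸ Z)) ≤ omegaOne p (M.map (QuotientGroup.mk' Z)) :=
      omegaOne_le_iff.2 fun y _ hy => by
        obtain ⟨g, rfl⟩ := QuotientGroup.mk_surjective y
        exact mem_omegaOne_of_pow ⟨g, by_contra fun hg => h2 g hg (hZW ((QuotientGroup.eq_one_iff _).1 hy)), rfl⟩ hy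
    refine (card_le_of_le e).trans ?_
    rw [← card_omegaOne_top_subgroup]
    exact card_omegaOne_le_of_isMetacyclic hp2 (hQ.to_subgroup _)
      (isMetacyclic_of_surjective _ (MonoidHom.subgroupMap_surjective _ M) hmc)
  have hlt : Nat.card (G ⧸ Z) < n := by
    rw [← hn, card_eq_card_quotient_mul_card_subgroup Z, hZc]
    exact lt_mul_of_one_lt_right Nat.card_pos hp.out.one_lt
  rcases ih _ hlt _ rfl hQ (pRankLE_iff.2 fun A hA => (card_le_of_le (le_omegaOne_of_pow le_top hA.2)).trans hO')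
    with h4 | ⟨-, y, hy⟩ | ⟨M', W', y, a, h4, -, -, h5⟩
  · exact .inl (isMetacyclic_of_isCyclic_commutator hp2 hG
      (isCyclic_commutator_of_central_quotient Z (hZ ▸ inf_le_right) h4) hO)
  swap
  · have : W' < omegaOne p ⊤ := lt_of_le_of_ne (le_omegaOne_of_pow le_top fun _ => h4.pow) fun e =>
      h4.nx (h4.le (e.ge (mem_omegaOne_of_pow trivial h5)))
    exact absurd (card_lt_of_lt this) (not_lt.2 (hO'.trans h4.card.ge))
  obtain ⟨g, rfl⟩ := QuotientGroup.mk_surjective y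
  obtain ⟨w₀, hw₀, hw₀'⟩ := h.exists_not_center
  have h5 : g ^ p ∈ W := by
    have := pow_mem_of_card_cent_le hQ (Z := W.map (QuotientGroup.mk' Z)) (by
      rintro _ ⟨w, hw, rfl⟩
      refine (mk_mem_center_iff Z w).2 fun g => ?_
      have := dl_eq g w⁻¹
      rw [inv_inv] at this
      rw [hZ, ← this]
      exact ⟨Bl.dl_mem hWn g (W.inv_mem hw), h.dl_center g (W.inv_mem hw)⟩)
      (fun e => hw₀' (hZ ▸ map_mk'_eq_bot.1 e hw₀).2) hy
    rw [← QuotientGroup.mk_pow, ← QuotientGroup.mk'_apply, ← mem_comap, QuotientGroup.comap_map_mk',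
      sup_eq_right.2 hZW] at this
    exact this
  have hg : g ∈ M := by_contra fun hg => h2 g hg h5
  obtain ⟨D, hD⟩ : ∃ D, D = (centralizer ({(g : G ⧸ Z)} : Set (G ⧸ Z))).comap (QuotientGroup.mk' Z) := ⟨_, rfl⟩
  have hDc : Nat.card D ≤ p * p ^ 2 := by rw [hD, card_comap_mk', hZc]; exact Nat.mul_le_mul_left _ hy
  have hDm : ∀ u, ⁅u, g⁆ ∈ Z → u ∈ D := fun u hu => by
    rw [hD, mem_comap, mem_centralizer_singleton_iff, ← commutatorElement_eq_one_iff_mul_comm]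
    exact (QuotientGroup.eq_one_iff ⁅u, g⁆).2 hu
  have chain : ∀ {A B : Subgroup G}, W < A → A < B → B ≤ D → False := fun l1 l2 l3 => by
    have c1 := mul_card_le_of_lt (hG.to_subgroup _) l1
    have c2 := (mul_card_le_of_lt (hG.to_subgroup _) l2).trans ((card_le_of_le l3).trans hDc)
    rw [hW] at c1
    have := c1.trans (Nat.le_of_mul_le_mul_left c2 hp.out.pos)
    have := hp.out.one_lt
    nlinarith [pow_pos hp.out.pos 2]
  rcases h.dich with ⟨a, ha⟩ | hb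
  · have hMc := hab a ha
    have e : W ⊔ zpowers (x₀ ^ p) = M := by_contra fun e => chain (left_lt_sup.2 fun l => h2 x₀ hx₀ (l (mem_zpowers _)))
      (lt_of_le_of_ne (sup_le hWM (zpowers_le.2 (h.pow_mem x₀))) e) fun u hu => hDm u (by
        rw [commutatorElement_eq_one_iff_mul_comm.2 (comm_of_mem hMc hu hg)]; exact Z.one_mem)
    have e2 := dl_eq_one_iff.2 (Commute.self_pow x₀ p)
    exact .inl (h.isMetacyclic_of_le h1 (h.commutator_le hMc e (e2 ▸ W.one_mem) (e2 ▸ one_mem _)))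
  have hH : ∀ u ∈ M, ⁅u, g⁆ ∈ Z := fun u hu => by
    have k1 : ⁅g, u⁆ ^ p = 1 := by
      have := (h.reg.commute_pow_iff (hG.to_subgroup M) 1 ⟨_, hg⟩ ⟨_, hu⟩).1
        (Subtype.ext (by simpa using (hcm _ h5 _ hu).eq))
      simpa [Subtype.ext_iff, commutatorElement_def] using this
    have k2 : ⁅u, g⁆ ^ p = 1 := by rw [← commutatorElement_inv, inv_pow, k1, inv_one]
    have := h.nM
    have k3 : IsCyclic ↥⁅M, M⁆ := by
      have := isCyclic_map M.subtype (isCyclic_commutator_of_isMetacyclic hmc)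
      rwa [_root_.commutator, map_commutator, ← MonoidHom.range_eq_map, range_subtype] at this
    have k4 : zpowers ⁅u, g⁆ ≤ ⁅M, M⁆ := zpowers_le.2 (commutator_mem_commutator hu hg)
    have := normal_of_le_of_isCyclic k3 k4
    rw [hZ]
    refine ⟨(hmem _).2 ⟨(Subgroup.commutator_le_left M M) (k4 (mem_zpowers _)), k2⟩,
      le_center_of_card_le hG (zpowers ⁅u, g⁆) ?_ (mem_zpowers _)⟩
    rw [Nat.card_zpowers]
    exact orderOf_le_of_pow_eq_one hp.out.pos k2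
  obtain ⟨u, hu, rfl⟩ := hb _ hw₀
  obtain ⟨z, hz, hz1⟩ := (Z.bot_or_exists_ne_one).resolve_left fun e => hp.out.one_lt.ne (by rw [← hZc, e, card_bot])
  obtain ⟨v, hv, rfl⟩ := hb _ (hZW hz)
  refine (chain (A := W ⊔ zpowers v) (left_lt_sup.2 fun l => hz1 (hWe.2 _ (l (mem_zpowers _))))
    (lt_of_le_of_ne (sup_le hWM (zpowers_le.2 hv)) fun e => hw₀' ?_) fun u hu => hDm u (hH u hu)).elim
  obtain ⟨w, hw, k, rfl⟩ := h.mem_iff.1 (e.ge hu)
  rw [(hcm w hw _ (M.pow_mem hv k)).mul_pow, hWe.2 w hw, one_mul, ← pow_mul, mul_comm, pow_mul]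
  exact (center G).pow_mem (hZ ▸ hz).2 k

end Cfsg.Lib.PGrp
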