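/-
Newton's formula for a pair of filtrations; groups of maximal class and order `p ^ (p + 1)` have exponent `> p`.
-/
import Cfsg.Agent.Lib.Fus3.MaxCl

set_option autoImplicit false
set_option linter.unusedSectionVars false

namespace Cfsg.Lib.PGrp

open Subgroup
open scoped commutatorElement

variable {G : Type*} [Group G] {A B : ℕ → Subgroup G}

/-- Commutators of the filtration `A` lie in the finer filtration `B`. -/
structure Rel2 (A B : ℕ → Subgroup G) : Prop where
  le : ∀ k, B k ≤ A k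
  comm : ∀ i j, ∀ x ∈ A i, ∀ y ∈ A j, ⁅x, y⁆ ∈ B (i + j)

theorem Rel2.conj (h : Rel2 A B) (hB : IsFiltration B) {i j : ℕ} {g x : G} (hg : g ∈ A j) (hx : x ∈ B i) :
    g * x * g⁻¹ ∈ B i := by
  simpa [commutatorElement_def] using mul_mem (hB.anti (Nat.le_add_left i j) (h.comm j i g hg x (h.le i hx))) hx

theorem Rel2.derived (h : Rel2 A B) (hA : IsFiltration A) (hB : IsFiltration B) (σ : G →* G) :
    Rel2 (derivedFiltration hA σ) (derivedFiltration hB σ) where
  le k f hf := ⟨h.le k hf.1, h.le _ hf.2⟩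
  comm i j f hf g hg := by
    refine ⟨h.comm i j f hf.1 g hg.1, ?_⟩
    have c1 := h.comm _ _ _ hf.2 _ (mul_mem hg.1 (hA.succ_le j hg.2))
    rw [show i + 1 + j = i + j + 1 by omega] at c1
    convert mul_mem (h.conj hB (inv_mem (hA.comm_mem i j f hf.1 g hg.1)) (h.conj hB hf.1 c1))
      (h.conj hB hg.1 (h.comm _ _ f hf.1 _ hg.2)) using 1
    simp [commutatorElement_def, mul_assoc]

theorem Rel2.poly (h : Rel2 A B) (hA : IsFiltration A) (hB : IsFiltration B) : Rel2 (polySeq hA) (polySeq hB) := by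
  have key : ∀ d, Rel2 (polyAux hA d).1 (polyAux hB d).1 := fun d => by
    induction d with
    | zero => exact ⟨fun k f hf n hn => h.le k (hf n hn), fun i j f hf g hg n hn => h.comm i j _ (hf n hn) _ (hg n hn)⟩
    | succ d ih => exact ih.derived (polyAux hA d).2 (polyAux hB d).2 _
  exact ⟨fun k => iInf_mono fun d => (key d).le k,
    fun i j f hf g hg => mem_iInf.2 fun d => (key d).comm i j f (mem_iInf.1 hf d) g (mem_iInf.1 hg d)⟩

variable (h : Rel2 A B) (hA : IsFiltration A) (hB : IsFiltration B)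
include h hA hB

theorem Rel2.dif_congr (k : ℕ) : ∀ {i : ℕ} {u v : ℕ → G}, u ∈ polySeq hA i →
    u⁻¹ * v ∈ polySeq hB i → (dif^[k] u 0)⁻¹ * dif^[k] v 0 ∈ B (i + k) := by
  induction k with
  | zero => exact fun _ h => ((mem_polySeq_iff hB).1 h).1 0
  | succ k ih =>
    intro i u v hu e
    have hP := h.poly hA hB
    have h1 := hP.comm _ _ _ (inv_mem (dif_mem hA hu)) _ (hP.le _ (inv_mem e))
    have h2 : (dif u)⁻¹ * dif v ∈ polySeq hB (i + 1) := by
      convert mul_mem ((isFiltration_polySeq hB).anti (by omega) h1) (dif_mem hB e) using 1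
      ext n; simp [dif, commutatorElement_def, mul_assoc]
    simpa [add_assoc, add_comm 1] using ih (dif_mem hA hu) h2

theorem Rel2.dif_mul (k : ℕ) : ∀ {i : ℕ} {u v : ℕ → G}, u ∈ polySeq hA i →
    v ∈ polySeq hA i → (dif^[k] u 0 * dif^[k] v 0)⁻¹ * dif^[k] (u * v) 0 ∈ B (i + k) := by
  induction k with
  | zero => exact fun _ _ => by simp
  | succ k ih =>
    intro i u v hu hv
    have hP := h.poly hA hB
    have hQ := isFiltration_polySeq hB
    have h1 := hP.comm _ _ _ (inv_mem (dif_mem hA hu)) _ (inv_mem hv)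
    have h2 : (dif u * dif v)⁻¹ * dif (u * v) ∈ polySeq hB (i + 1) := by
      convert hP.conj hQ (inv_mem (dif_mem hA hv)) (hQ.anti (by omega : i + 1 ≤ _) h1) using 1
      ext n; simp [dif, commutatorElement_def, mul_assoc]
    have h3 := mul_mem (ih (dif_mem hA hu) (dif_mem hA hv))
      (h.dif_congr hA hB k (mul_mem (dif_mem hA hu) (dif_mem hA hv)) h2)
    simpa [add_assoc, add_comm 1, mul_assoc] using h3

theorem Rel2.newton {j n : ℕ} : ∀ (d k : ℕ) {f : ℕ → G}, k + d = n →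
    f ∈ polySeq hA j → (∀ m < k, f m = 1) → (∀ l, k ≤ l → l < n → ∀ c ∈ A (j + l), c ^ n.choose l = 1) →
    (dif^[n] f 0)⁻¹ * f n ∈ B (j + n) := by
  intro d
  induction d with
  | zero => intro k f e _ h _; rw [iter_dif_eq n (by simpa [← e] using h)]; simp
  | succ d ih =>
    intro k f e hf h0 hK
    have hc := apply_mem_of_mem_polySeq hA k hf h0
    have hu := pow_choose_mem_polySeq hA k hc
    have hr := mul_mem (inv_mem hu) hf
    have h1 := ih (k + 1) (by omega) hr (fun m hm => by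
      rcases Nat.lt_succ_iff_lt_or_eq.1 hm with hm | rfl
      · simp [h0 m hm, Nat.choose_eq_zero_of_lt hm]
      · simp) fun l h1 h2 => hK l (by omega) h2
    have h2 := h.dif_mul hA hB n hu hr
    rw [iter_dif_choose n k _ (by omega), one_mul, mul_inv_cancel_left] at h2
    simpa [mul_assoc, hK k le_rfl (by omega) _ hc] using mul_mem (inv_mem h2) h1

theorem Rel2.engel {p : ℕ} (hp : p.Prime) {x g : G} (hx : ∀ k, ∀ y ∈ A k, dl x y ∈ A (k + 1)) (hg : g ∈ A 1)
    (he : ∀ y : G, y ^ p = 1) : (dl x)^[p - 1] g ∈ B p := by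
  obtain ⟨f, hf⟩ : ∃ f : ℕ → G, f = fun n => (g * x) ^ n * (x ^ n)⁻¹ := ⟨_, rfl⟩
  have d1 : dif f = fun n : ℕ => x ^ n * g * (x ^ n)⁻¹ := by ext n; simp [hf, dif, pow_succ, mul_assoc]
  have m1 := conjSeq_mem hA hx hg
  have m2 : f ∈ polySeq hA 0 := (mem_polySeq_iff hA).2 ⟨fun n => by
    induction n with
    | zero => simp [hf]
    | succ n ih =>
      have := mul_mem ih (hA.succ_le 0 (((mem_polySeq_iff hA).1 m1).1 n))
      rwa [← congrFun d1 n, dif, mul_inv_cancel_left] at this, show dif f ∈ _ from d1 ▸ m1⟩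
  have h2 := hp.two_le
  have h3 := h.newton hA hB (p - 1) 1 (n := p) (by omega) m2 (fun m hm => by interval_cases m; simp [hf])
    fun l h1 h2 c _ => by
      obtain ⟨t, ht⟩ := hp.dvd_choose_self (by omega) h2
      rw [ht, pow_mul, he, one_pow]
  have h6 : dif^[p] f 0 = (dl x)^[p - 1] g := by
    conv_lhs => rw [show p = p - 1 + 1 by omega, Function.iterate_succ_apply, d1, iter_dif_conjSeq]
  rw [h6] at h3
  simpa [hf, he] using h3

end Cfsg.Lib.PGrp

namespace Cfsg.Lib.Fus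

open Cfsg Subgroup PGrp
open scoped commutatorElement

variable {X : Type*} [Group X] {p : ℕ} [hp : Fact p.Prime] {G : ℕ → Subgroup X}

namespace MxC

variable {n : ℕ} (h : MxC p ⊤ n G)

/-- Pairs in `G a` which are inverse to each other modulo `G c`. -/
def asym (a c : ℕ) : Subgroup (X × X) where
  carrier := {u | u.1 ∈ G a ∧ u.2 ∈ G a ∧ u.1 * u.2 ∈ G (min c (a + a))}
  one_mem' := ⟨one_mem _, one_mem _, by simp⟩
  mul_mem' := fun {u v} hu hv => ⟨mul_mem hu.1 hv.1, mul_mem hu.2.1 hv.2.1, by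
    have := h.anti (min_le_right c _) (h.c1 _ _ _ hv.1 _ hu.2.1)
    simpa [commutatorElement_def, mul_assoc] using
      mul_mem (h.conj_mem (g := u.1) (mem_top _) this) (mul_mem hu.2.2 hv.2.2)⟩
  inv_mem' := fun {u} hu => ⟨inv_mem hu.1, inv_mem hu.2.1, by
    simpa [mul_assoc] using h.conj_mem (mem_top u.1⁻¹) (inv_mem hu.2.2)⟩

/-- Pairs in `G a` which are congruent modulo `G c`. -/
def sym (a c : ℕ) : Subgroup (X × X) where
  carrier := {u | u.1 ∈ G a ∧ u.2 ∈ G a ∧ u.1⁻¹ * u.2 ∈ G c}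
  one_mem' := ⟨one_mem _, one_mem _, by simp⟩
  mul_mem' := fun {u v} hu hv => ⟨mul_mem hu.1 hv.1, mul_mem hu.2.1 hv.2.1, by
    simpa [mul_assoc] using mul_mem (h.conj_mem (mem_top v.1⁻¹) hu.2.2) hv.2.2⟩
  inv_mem' := fun {u} hu => ⟨inv_mem hu.1, inv_mem hu.2.1, by
    simpa [mul_assoc] using h.conj_mem (mem_top u.1) (inv_mem hu.2.2)⟩

include h

theorem dl_mul_mem {x u v : X} {a c : ℕ} (hu : u ∈ G a) (hv : v ∈ G 1) (e : u * v ∈ G c) :
    dl x u * dl x v ∈ G (min (c + 1) (a + 2)) := by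
  have m1 := h.anti (min_le_left (c + 1) (a + 2)) (h.dl_mem (mem_top x) e)
  have m2 := h.anti (min_le_right (c + 1) (a + 2)) (h.c1 _ _ _ (h.dl_mem (mem_top x) hu) _ (inv_mem hv))
  simpa [dl, commutatorElement_def, mul_assoc] using mul_mem m2 m1

theorem not_exp (hb : G n = ⊥) (hn : n = p + 1) : ¬ ∀ y : X, y ^ p = 1 := fun he => by
  have h4 := h.four
  obtain ⟨x, hx⟩ := h.exists_un
  obtain ⟨g, hg, hg'⟩ := (h.ip 1 (by omega)).exists_not_mem
  let A := fun k => h.asym (max 1 k) (min (max 1 k + 1) p)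
  let B := fun k => h.sym (max (max 1 k) (min (max 1 k + 1) p)) (max 1 k + 1)
  have sB : ∀ k, B (k + 1) ≤ B k := fun k u hu =>
    ⟨h.anti (by omega) hu.1, h.anti (by omega) hu.2.1, h.anti (by omega) hu.2.2⟩
  have one : ∀ {i} {y : X}, y ∈ G i → p + 1 ≤ i → y = 1 := fun hy e => mem_bot.mp (h.eq_bot hb (hn ▸ e) ▸ hy)
  have R : Rel2 A B := ⟨fun k u hu => ⟨h.anti (by omega) hu.1, h.anti (by omega) hu.2.1,
    h.anti (by omega) (mul_mem hu.1 hu.2.1)⟩, fun i j u hu v hv => by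
      refine antitone_nat_of_succ_le sB (show i + j ≤ max 1 i + max 1 j by omega) ?_
      obtain ⟨b, hb⟩ : ∃ b, max 1 j = b + 1 := ⟨max 1 j - 1, by omega⟩
      obtain ⟨u1, u2, u3⟩ := hu
      obtain ⟨v1, v2, v3⟩ := hv
      rw [hb] at v1 v2 v3 ⊢
      generalize ha : max 1 i = a at u1 u2 u3 ⊢
      have c1 := h.c1 _ _ _ u1 _ v1
      have c2 := h.c1 _ _ _ u2 _ v2
      rcases lt_trichotomy (a + (b + 1)) p with e | e | e
      · have k := h.c3 (m := p - 1) (fun j h1 h2 => h.le_tw j h1 (by omega)) b a (by omega) (by omega)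
        exact ⟨h.anti (by omega) (k _ u1 _ v1), h.anti (by omega) (k _ u2 _ v2),
          h.anti (by omega) (mul_mem (inv_mem (k _ u1 _ v1)) (k _ u2 _ v2))⟩
      · refine ⟨h.anti (by omega) c1, h.anti (by omega) c2, ?_⟩
        have e1 := one (h.c1 _ _ _ u3 _ v2) (by omega)
        have e2 := one (h.c1 _ _ _ u1 _ v3) (by omega)
        have e3 := one (h.dl_mem (mem_top u.1) c2) (by omega)
        have e4 := one (h.dl_mem (mem_top v.1) (h.c1 _ _ _ u1 _ v2)) (by omega)
        rw [dl, inv_mul_eq_one] at e3 e4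
        have e5 : ⁅u.2, v.2⁆ * ⁅u.1, v.2⁆ = 1 := by rw [e3, ← e1]; simp [commutatorElement_def, mul_assoc]
        have e6 : ⁅u.1, v.1⁆ * ⁅u.1, v.2⁆ = 1 := by rw [e4, ← e2]; simp [commutatorElement_def, mul_assoc]
        change ⁅u.1, v.1⁆⁻¹ * ⁅u.2, v.2⁆ ∈ _
        rw [mul_right_cancel (e5.trans e6.symm), inv_mul_cancel]; exact one_mem _
      · have : ⁅u, v⁆ = 1 := Prod.ext (one c1 e) (one c2 e)
        rw [this]; exact one_mem _⟩
  have hA : IsFiltration A := ⟨fun k u hu => ⟨h.anti (by omega) hu.1, h.anti (by omega) hu.2.1,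
    h.anti (by omega) hu.2.2⟩, fun i j u hu v hv => R.le _ (R.comm i j u hu v hv)⟩
  have hB : IsFiltration B := ⟨sB, fun i j u hu v hv => R.comm i j u (R.le _ hu) v (R.le _ hv)⟩
  have k := R.engel hA hB hp.out (x := (x, x)) (g := (g, g⁻¹)) (fun k u hu => ⟨h.anti (by omega)
    (h.dl_mem (mem_top x) hu.1), h.anti (by omega) (h.dl_mem (mem_top x) hu.2.1),
    h.anti (by omega) (h.dl_mul_mem hu.1 (h.anti (by omega) hu.2.1) hu.2.2)⟩) ⟨hg, inv_mem hg, by simp⟩
    fun y => Prod.ext (he y.1) (he y.2)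
  have it : ∀ k, (dl (x, x))^[k] (g, g⁻¹) = ((dl x)^[k] g, (dl x)^[k] g⁻¹) ∧
      (dl x)^[k] g * (dl x)^[k] g⁻¹ ∈ G (k + 2) := fun k => by
    induction k with
    | zero => simp
    | succ k ih =>
      simp only [Function.iterate_succ_apply', ih.1]
      exact ⟨rfl, h.anti (by omega) (h.dl_mul_mem (h.iter_mem (mem_top x) hg k)
        (h.anti (by omega) (h.iter_mem (mem_top x) (inv_mem hg) k)) ih.2)⟩
  rw [(it _).1] at k
  have e1 := inv_mul_eq_one.mp (one k.2.2 (by omega))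
  have e2 := one (it (p - 1)).2 (by omega)
  refine h.iter_not_mem hx le_rfl hg hg' (p - 1) (by omega) ?_
  simp only at e1
  rw [← e1] at e2
  rw [eq_one_of_sq (by omega) (he ((dl x)^[p - 1] g)) (eq_inv_of_mul_eq_one_left e2)]
  exact one_mem _

end MxC

end Cfsg.Lib.Fus
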