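/-
A kernel-checked certificate for the simplicity of the `2`-fusion system of a permutation group.
-/
import Cfsg.Agent.Lib.Fus3.SimpleCrit
import Cfsg.Agent.Lib.Golay.Cls

set_option autoImplicit false
set_option linter.unusedSectionVars false

namespace Cfsg.Lib.Golay

open Cfsg Subgroup Cfsg.Lib.Fus

variable {α : Type*} [Finite α] {c : Coding α}

/-- number of common fixed points. -/
noncomputable def cfix (y z : Equiv.Perm α) : ℕ := {a | y a = a ∧ z a = a}.ncard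

theorem cfix_conj (g y z : Equiv.Perm α) : cfix (g * y * g⁻¹) (g * z * g⁻¹) = cfix y z := by
  rw [cfix, ncard_setOf_smul g]; simp [cfix]

/-- coded number of common fixed points. -/
noncomputable def cfixN (n y z : ℕ) : ℕ :=
  countN n fun i => band (Nat.beq (app y i) i) (Nat.beq (app z i) i)

theorem cfix_dec {y z : ℕ} (hy : c.Valid y) (hz : c.Valid z) : cfix (c.dec y) (c.dec z) = cfixN c.n y z := by
  rw [cfixN, countN_eq, ← Set.ncard_coe_finset, cfix]
  symm
  refine Set.ncard_congr (fun i _ => c.pt i) (fun i hi => ?_) (fun i j hi hj e => ?_) fun a ha => ?_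
  · simp only [Finset.coe_filter, Finset.mem_range, band_iff, beq_iff, Set.mem_ofPred_eq] at hi
    exact ⟨by rw [hy.dec_pt hi.1, hi.2.1], by rw [hz.dec_pt hi.1, hi.2.2]⟩
  · simp only [Finset.coe_filter, Finset.mem_range, Set.mem_ofPred_eq] at hi hj
    exact (c.pt_inj hi.1 hj.1).mp e
  · obtain ⟨i, hi, rfl⟩ := c.exists_pt a
    refine ⟨i, ?_, rfl⟩
    simp only [Finset.coe_filter, Finset.mem_range, band_iff, beq_iff, Set.mem_ofPred_eq]
    rw [Set.mem_ofPred_eq, hy.dec_pt hi, hz.dec_pt hi, c.pt_inj (hy.app_lt hi) hi, c.pt_inj (hz.app_lt hi) hi] at ha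
    exact ⟨hi, ha⟩

/-- a conjugation invariant of the pair `(z, y)`. -/
noncomputable def pty (z y : Equiv.Perm α) : ℕ := cfix y y + 256 * cfix (y * y) (y * y) + 65536 * cfix y z

theorem pty_conj (g z y : Equiv.Perm α) : pty (g * z * g⁻¹) (g * y * g⁻¹) = pty z y := by
  rw [pty, conj_mul, cfix_conj, cfix_conj, cfix_conj, pty]

/-- coded form of `pty`. -/
noncomputable def ptyN (n z y : ℕ) : ℕ := forceN (mulN n y y) fun u =>
  Nat.add (Nat.add (cfixN n y y) (Nat.mul 256 (cfixN n u u))) (Nat.mul 65536 (cfixN n y z))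

theorem pty_dec {y z : ℕ} (hy : c.Valid y) (hz : c.Valid z) : pty (c.dec z) (c.dec y) = ptyN c.n z y := by
  rw [ptyN, forceN_eq, pty, ← hy.dec_mul hy, cfix_dec hy hy, cfix_dec (hy.mul hy) (hy.mul hy), cfix_dec hy hz]; rfl

/-- number of elements of type `t` in the coset `x Φ`. -/
noncomputable def pcnt (z : Equiv.Perm α) (Φ : Subgroup (Equiv.Perm α)) (t : ℕ) (x : Equiv.Perm α) : ℕ :=
  {f | f ∈ (Φ : Set (Equiv.Perm α)) ∧ pty z (x * f) = t}.ncard

theorem pcnt_mul {z x f : Equiv.Perm α} {Φ : Subgroup (Equiv.Perm α)} (t : ℕ) (hf : f ∈ Φ) :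
    pcnt z Φ t (x * f) = pcnt z Φ t x := by
  rw [pcnt, pcnt, ncard_setOf_smul f (fun y => y ∈ (Φ : Set (Equiv.Perm α)) ∧ pty z (x * y) = t)]
  simp only [smul_eq_mul, SetLike.mem_coe, mul_mem_cancel_left hf, mul_assoc]

theorem pcnt_conj {z x g : Equiv.Perm α} {Φ : Subgroup (Equiv.Perm α)} (t : ℕ)
    (hg : g ∈ normalizer (Φ : Set (Equiv.Perm α))) (hz : g * z * g⁻¹ = z) :
    pcnt z Φ t (g * x * g⁻¹) = pcnt z Φ t x := by
  symm
  refine Set.ncard_congr (fun f _ => g * f * g⁻¹) (fun f hf => ⟨conj_mem_of_mem_normalizer hg hf.1, ?_⟩)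
    (fun f f' _ _ e => by simpa using e) fun f hf => ⟨g⁻¹ * f * g, ⟨inv_conj_mem_of_mem_normalizer hg hf.1, ?_⟩,
      by group⟩
  · rw [conj_mul, ← hf.2]; nth_rewrite 1 [← hz]; rw [pty_conj]
  · rw [← hf.2, ← pty_conj g, hz]; congr 1; group

/-- The certificate: `T` lists the generators with a partner and a type, `us` has the squares generating `Φ`, `R`
represents the cosets of `Φ`, `z` generates the centre. -/
noncomputable def sylCert (n : ℕ) (T : List (ℕ × ℕ × ℕ)) (fs R : List ℕ) (z : ℕ) : Bool :=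
  bfsH 251 8 (mapL (mulN n) fs) 4 (idN n) fun mem L =>
    band (band (mem z) (allL T fun s => band (band (isPerm n s.2.1) (Nat.beq (mulN n s.1 z) (mulN n z s.1)))
      (allL fs fun f => mem (conjN n s.1 f))))
    (band (allL (idN n :: R) fun r => band (mem (mulN n r r))
        (band (allL T fun s => forceN (mulN n s.1 r) fun x =>
            anyL (idN n :: R) fun r' => mem (mulN n (invN n r') x))
          (allL L fun f => forceN (mulN n r f) fun x => bor (bor (Nat.beq x (idN n)) (Nat.beq x z))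
            (anyL T fun s => bnot (Nat.beq (mulN n s.1 x) (mulN n x s.1))))))
      (allL T fun s => forceN (countL L fun f => Nat.beq (ptyN n z (mulN n s.1 f)) s.2.2) fun k =>
        allL (idN n :: R) fun r => bor (bor (mem (mulN n (invN n s.1) r)) (mem (mulN n (invN n s.2.1) r)))
          (bnot (Nat.beq (countL L fun f => Nat.beq (ptyN n z (mulN n r f)) s.2.2) k))))

theorem sylCert_spec {T : List (ℕ × ℕ × ℕ)} {us R : List ℕ} {z : ℕ} (hT : ∀ s ∈ mapL Prod.fst T, c.Valid s)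
    (hus : ∀ u ∈ us, c.InH (c.gen (mapL Prod.fst T)) u) (hR : ∀ r ∈ R, c.InH (c.gen (mapL Prod.fst T)) r)
    (hz : c.Valid z) (h2 : IsPGroup 2 (c.gen (mapL Prod.fst T)))
    (h : sylCert c.n T (mapL (fun u => mulN c.n u u) us) R z = true) :
    (∀ x ∈ c.gen (mapL Prod.fst T), (∀ s ∈ c.gen (mapL Prod.fst T), s * x = x * s) → x = 1 ∨ x = c.dec z) ∧
      ∀ g ∈ normalizer (c.gen (mapL Prod.fst T) : Set (Equiv.Perm α)), ∀ x ∈ c.gen (mapL Prod.fst T),
        x⁻¹ * (g ^ 2 * x * (g ^ 2)⁻¹) ∈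
          (frattini (c.gen (mapL Prod.fst T))).map (c.gen (mapL Prod.fst T)).subtype := by
  set S := c.gen (mapL Prod.fst T) with hS
  set fs := mapL (fun u => mulN c.n u u) us with hfs
  have hfs' : ∀ f ∈ fs, ∃ u ∈ us, f = mulN c.n u u := by
    rw [hfs, mapL_eq]; intro f hf
    obtain ⟨u, hu, e⟩ := List.mem_map.mp hf
    exact ⟨u, hu, e.symm⟩
  have vf : ∀ f ∈ fs, c.Valid f := fun f hf => by
    obtain ⟨u, hu, rfl⟩ := hfs' f hf
    exact (hus u hu).1.mul (hus u hu).1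
  have mT : ∀ s ∈ T, s.1 ∈ mapL Prod.fst T := fun s hs => by rw [mapL_eq]; exact List.mem_map_of_mem hs
  have mT' : ∀ {P : Equiv.Perm α → Prop}, (∀ s ∈ T, P (c.dec s.1)) →
      ∀ σ ∈ {σ | ∃ g ∈ mapL Prod.fst T, c.dec g = σ}, P σ := by
    rintro P hP _ ⟨g, hg, rfl⟩
    rw [mapL_eq] at hg
    obtain ⟨s, hs, rfl⟩ := List.mem_map.mp hg
    exact hP s hs
  have vT : ∀ s ∈ T, c.InH S s.1 := fun s hs => Coding.inH_gen hT _ (mT s hs)
  have hR' : ∀ r ∈ idN c.n :: R, c.InH S r := fun r hr => by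
    rcases List.mem_cons.mp hr with rfl | hr
    exacts [Coding.inH_one S, hR r hr]
  obtain ⟨mem, t, L, h1, hE, hm⟩ := Coding.enum_gen vf h
  set Φ := c.gen fs with hΦ
  simp only [band_iff, allL_iff, anyL_iff, bor_iff, bnot_iff, beq_iff, forceN_eq] at h1
  obtain ⟨⟨a1, a2⟩, a3, a4⟩ := h1
  have hΦS : Φ ≤ closure {y | ∃ x ∈ S, x * x = y} := Coding.gen_le fun f hf => ⟨vf f hf, by
    obtain ⟨u, hu, rfl⟩ := hfs' f hf
    exact subset_closure ⟨_, (hus u hu).2, ((hus u hu).1.dec_mul (hus u hu).1).symm⟩⟩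
  have hsq : closure {y | ∃ x ∈ S, x * x = y} ≤ S := (closure_le _).mpr (by
    rintro _ ⟨x, hx, rfl⟩; exact S.mul_mem hx hx)
  have hn : S ≤ normalizer (Φ : Set (Equiv.Perm α)) := le_normalizer_of_conj_mem
    (Coding.conj_mem_gen hT vf fun g hg y hy => by
      rw [mapL_eq] at hg
      obtain ⟨s, hs, rfl⟩ := List.mem_map.mp hg
      exact (hm _ ((vT s hs).1.conj (vf y hy)).1).mp ((a2 s hs).2 y hy))
  have hmul : ∀ {a b : ℕ}, c.Valid a → c.Valid b → mem (mulN c.n (invN c.n a) b) = true →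
      (c.dec a)⁻¹ * c.dec b ∈ Φ := fun ha hb e => by
    rw [← ha.inv.2, ← ha.inv.1.dec_mul hb]; exact (hm _ (ha.inv.1.mul hb)).mp e
  have hcos : ∀ x ∈ S, ∃ r ∈ idN c.n :: R, ∃ f ∈ Φ, x = c.dec r * f := by
    have key : ∀ σ ∈ {σ | ∃ g ∈ mapL Prod.fst T, c.dec g = σ},
        ∀ x ∈ {x | ∃ r ∈ idN c.n :: R, ∃ f ∈ Φ, x = c.dec r * f}, σ • x ∈
          {x | ∃ r ∈ idN c.n :: R, ∃ f ∈ Φ, x = c.dec r * f} := mT' fun s hs => by
      rintro _ ⟨r, hr, f, hf, rfl⟩
      obtain ⟨r', hr', e⟩ := (a3 r hr).2.1 s hs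
      have := hmul (hR' r' hr').1 ((vT s hs).1.mul (hR' r hr).1) e
      rw [(vT s hs).1.dec_mul (hR' r hr).1] at this
      exact ⟨r', hr', _, Φ.mul_mem this hf, by rw [smul_eq_mul]; group⟩
    intro x hx
    simpa using smul_mem_of_closure key hx 1 ⟨idN c.n, List.mem_cons_self, 1, Φ.one_mem, by simp [Coding.dec_one]⟩
  have hΦe : Φ = closure {y | ∃ x ∈ S, x * x = y} := le_antisymm hΦS ((closure_le _).mpr (by
    rintro _ ⟨x, hx, rfl⟩
    obtain ⟨r, hr, f, hf, rfl⟩ := hcos x hx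
    have h3 := (hm _ ((hR' r hr).1.mul (hR' r hr).1)).mp (a3 r hr).1
    rw [(hR' r hr).1.dec_mul (hR' r hr).1] at h3
    convert Φ.mul_mem (Φ.mul_mem h3 (inv_conj_mem_of_mem_normalizer (hn (hR' r hr).2) hf)) hf using 1
    simp only [SetLike.mem_coe]; group))
  have hZ : ∀ x ∈ S, (∀ s ∈ S, s * x = x * s) → x = 1 ∨ x = c.dec z := fun x hx hc => by
    obtain ⟨r, hr, f, hf, rfl⟩ := hcos x hx
    obtain ⟨y, hy, rfl⟩ := hE.surj f hf
    have vy : c.Valid y := hE.valid y hy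
    have vx := (hR' r hr).1.mul vy
    rw [show c.elemCode.dec y = c.dec y from rfl, ← (hR' r hr).1.dec_mul vy] at hc ⊢
    rcases (a3 r hr).2.2 y hy with (e | e) | ⟨s, hs, e⟩
    · exact Or.inl (by rw [e, Coding.dec_one])
    · exact Or.inr (by rw [e])
    · refine absurd ?_ e
      rw [← ((vT s hs).1.mul vx).dec_inj (vx.mul (vT s hs).1), (vT s hs).1.dec_mul vx, vx.dec_mul (vT s hs).1]
      exact hc _ (vT s hs).2
  refine ⟨hZ, fun g hg x hx => ?_⟩
  have hzS : c.dec z ∈ S := hsq (hΦS ((hm z hz).mp a1))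
  have hzc : S ≤ centralizer {c.dec z} := (closure_le _).mpr (mT' fun s hs => by
    rw [SetLike.mem_coe, mem_centralizer_singleton_iff, ← (vT s hs).1.dec_mul hz, ← hz.dec_mul (vT s hs).1,
      (a2 s hs).1.2])
  have hgz : g * c.dec z * g⁻¹ = c.dec z := by
    rcases hZ _ (conj_mem_of_mem_normalizer hg hzS) fun s hs => by
      have := mem_centralizer_singleton_iff.mp (hzc (inv_conj_mem_of_mem_normalizer hg hs))
      calc s * (g * c.dec z * g⁻¹) = g * (g⁻¹ * s * g * c.dec z) * g⁻¹ := by group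
        _ = _ := by rw [this]; group with e | e
    · rw [e, show c.dec z = g⁻¹ * (g * c.dec z * g⁻¹) * g by group, e]; simp
    · exact e
  have hgΦ : g ∈ normalizer (Φ : Set (Equiv.Perm α)) := mem_normalizer_of_conj_mem_finite fun y hy => by
    rw [hΦe] at hy ⊢
    induction hy using closure_induction with
    | mem y hy =>
      obtain ⟨x, hx, rfl⟩ := hy
      exact subset_closure ⟨_, conj_mem_of_mem_normalizer hg hx, by group⟩
    | one => simp
    | mul x y _ _ h1 h2 => rw [← conj_mul]; exact mul_mem h1 h2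
    | inv x _ h1 => rw [← conj_inv]; exact inv_mem h1
  have hcnt : ∀ {r : ℕ} (k : ℕ), c.Valid r → pcnt (c.dec z) Φ k (c.dec r) =
      countL L fun f => Nat.beq (ptyN c.n z (mulN c.n r f)) k := fun k hr =>
    hE.ncard_filter _ _ fun y hy => by
      rw [beq_iff, ← pty_dec (hr.mul hy) hz, hr.dec_mul hy]; rfl
  have hle : Φ ≤ (frattini S).map S.subtype := hΦe ▸ (closure_le _).mpr (by
    rintro _ ⟨x, hx, rfl⟩
    exact ⟨⟨x, hx⟩ ^ 2, PGrp.pow_mem_frattini h2 _, pow_two x⟩)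
  refine hle (inv_mul_conj_mem_of_closure hn (mT' fun s hs => sq_conj_mem (s' := c.dec s.2.1) hg hgΦ
    (pcnt (c.dec z) Φ s.2.2) (fun x _ => pcnt_conj _ hgΦ hgz) (vT s hs).2 fun x hx e => ?_) x hx)
  obtain ⟨r, hr, f, hf, rfl⟩ := hcos x hx
  rw [pcnt_mul _ hf, hcnt _ (hR' r hr).1, hcnt _ (vT s hs).1] at e
  rw [← mul_assoc, ← mul_assoc, mul_mem_cancel_right hf, mul_mem_cancel_right hf]
  exact ((a4 s hs r hr).resolve_right fun h => h e).imp (hmul (vT s hs).1 (hR' r hr).1)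
    (hmul (Coding.valid_of_isPerm (a2 s hs).1.1) (hR' r hr).1)

/-- successive conjugations of words in the elements found so far give all of the generators `ss`. -/
noncomputable def genCert (n : ℕ) (ss : List ℕ) (fin : List (List ℕ)) (steps : List (ℕ × List ℕ × List ℕ)) :
    List ℕ → Bool :=
  List.rec (fun cur => allL ss fun s => anyL fin fun w => Nat.beq (wordN n cur w) s)
    (fun s _ r cur => forceN (wordN n ss s.2.2) fun y =>
      band (Nat.beq (conjN n s.1 (wordN n cur s.2.1)) y) (r (y :: cur))) steps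

theorem genCert_spec {H T : Subgroup (Equiv.Perm α)} {ss : List ℕ} (hss : ∀ s ∈ ss, c.Valid s)
    (hT : SCl H (c.gen ss) T) {fin : List (List ℕ)} {steps : List (ℕ × List ℕ × List ℕ)}
    (hH : ∀ g ∈ mapL Prod.fst steps, c.InH H g) {cur : List ℕ} (hcur : ∀ y ∈ cur, c.InH T y)
    (h : genCert c.n ss fin steps cur = true) : c.gen ss ≤ T := by
  induction steps generalizing cur with
  | nil =>
    refine Coding.gen_le fun s hs => ?_
    obtain ⟨w, -, e⟩ := anyL_iff.mp (allL_iff.mp h s hs)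
    exact beq_iff.mp e ▸ Coding.inH_wordN hcur w
  | cons s steps ih =>
    have h' : forceN (wordN c.n ss s.2.2) (fun y => band (Nat.beq (conjN c.n s.1 (wordN c.n cur s.2.1)) y)
      (genCert c.n ss fin steps (y :: cur))) = true := h
    rw [forceN_eq, band_iff, beq_iff] at h'
    have hs := hH s.1 List.mem_cons_self
    refine ih (fun g hg => hH g (List.mem_cons_of_mem _ hg)) (fun y hy => ?_) h'.2
    rcases List.mem_cons.mp hy with rfl | hy
    · have h1 := Coding.inH_wordN (Coding.inH_gen hss) s.2.2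
      have h2 := Coding.inH_wordN hcur s.2.1
      refine ⟨h1.1, ?_⟩
      have h3 := h1.2
      rw [← h'.1, (hs.1.conj h2.1).2] at h3 ⊢
      exact hT.2 _ h2.2 _ hs.2 h3
    · exact hcur y hy

theorem simple_of_cert {H : Subgroup (Equiv.Perm α)} (S : Sylow 2 H) {T : List (ℕ × ℕ × ℕ)}
    (hT : ∀ s ∈ mapL Prod.fst T, c.InH H s) {k m : ℕ} (h1 : Nat.card (c.gen (mapL Prod.fst T)) = 2 ^ (k + 1))
    (h2 : Nat.card H = 2 ^ (k + 1) * m) (hm : ¬ 2 ∣ m) (uw rw' : List (List ℕ)) {us R : List ℕ}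
    (hus : mapL (wordN c.n (mapL Prod.fst T)) uw = us) (hR : mapL (wordN c.n (mapL Prod.fst T)) rw' = R) {z : ℕ}
    (hz : c.Valid z) (h : sylCert c.n T (mapL (fun u => mulN c.n u u) us) R z = true) {fin : List (List ℕ)}
    {steps : List (ℕ × List ℕ × List ℕ)} (hH : ∀ g ∈ mapL Prod.fst steps, c.InH H g)
    (h' : genCert c.n (mapL Prod.fst T) fin steps [z] = true) :
    (groupFusionSystem (S : Subgroup H)).IsSimple 2 := by
  have hv : ∀ s ∈ mapL Prod.fst T, c.Valid s := fun s hs => (hT s hs).1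
  obtain ⟨σ, hσ⟩ := sylow_conjTo (Coding.gen_le hT) h1 h2 hm S
  obtain ⟨a1, a2⟩ := sylCert_spec hv (hus ▸ Coding.inH_words (Coding.inH_gen hv) uw)
    (hR ▸ Coding.inH_words (Coding.inH_gen hv) rw') hz (IsPGroup.of_card h1) h
  refine simple_of_emb S ((MulAut.conj σ⁻¹).toMonoidHom.comp H.subtype)
    ((MulAut.conj σ⁻¹).injective.comp Subtype.val_injective) (H := H) ?_ ?_
    (ne_bot_of_card h1 (by have := Nat.one_le_two_pow (n := k); omega)) (fun U hU x hx hx1 hc => ?_)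
    fun g _ hg => ⟨1, a2 g hg⟩
  · ext x
    refine ⟨?_, fun hx => ⟨⟨σ * x * σ⁻¹, mul_mem (mul_mem hσ.mem hx) (inv_mem hσ.mem)⟩, by simp [mul_assoc]⟩⟩
    rintro ⟨g, rfl⟩
    simpa using mul_mem (mul_mem (inv_mem hσ.mem) g.2) hσ.mem
  · ext x
    refine ⟨?_, fun hx => ⟨_, hσ.conj_mem hx, by simp [mul_assoc]⟩⟩
    rintro ⟨g, hg, rfl⟩
    simpa using (hσ.iff g).mp hg
  · obtain rfl := (a1 x (hU.1 hx) hc).resolve_left hx1
    exact genCert_spec hv hU hH (fun y hy => by rw [List.mem_singleton.mp hy]; exact ⟨hz, hx⟩) h'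

end Cfsg.Lib.Golay
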