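/-
Saturated fusion systems on `p`-groups of rank two, `p ≥ 5`.
-/
import Cfsg.Agent.Lib.Fus3.Plane

set_option autoImplicit false
set_option linter.unusedSectionVars false

namespace Cfsg.Lib.Fus

open Cfsg Cfsg.FusionSystem Equiv Subgroup
open scoped commutatorElement

variable {Ω : Type*} [Group Ω] {p : ℕ} [hp : Fact p.Prime] {M T V W Z : Subgroup Ω} {w x : Ω}
  {φ ψ : Ω → ZMod p} {σ : Perm Ω}

theorem weakReg_mul_pow [Finite M] (hM : IsPGroup p M) (hr : PGrp.WeakReg p M) (j : ℕ)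
    (hc : ∀ y ∈ M, y ^ p = 1 → ∀ g ∈ M, Commute y g) {a b : Ω} (ha : a ∈ M) (hb : b ∈ M)
    (h1 : a ^ p ^ (j + 1) = 1) (h2 : b ^ p ^ (j + 1) = 1) :
    (a * b) ^ p ^ (j + 1) = 1 ∧ (a * b) ^ p ^ j = a ^ p ^ j * b ^ p ^ j := by
  have e1 : (⟨a, ha⟩ : M) ^ p ^ (j + 1) = 1 := Subtype.ext h1
  have e2 : (⟨b, hb⟩ : M) ^ p ^ (j + 1) = 1 := Subtype.ext h2
  refine ⟨congrArg Subtype.val (hr.mul_pow_pow_eq_one hM _ e1 e2), congrArg Subtype.val
    (hr.mul_pow_pow hM j (omegaOne (p ^ (j + 1)) ⊤) (fun c hc' => ?_) _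
      (PGrp.mem_omegaOne_of_pow (mem_top _) e1) _ (PGrp.mem_omegaOne_of_pow (mem_top _) e2))⟩
  refine hr.pow_pow_eq_one_of_mem_omegaOne hM j ⊤ c ((commutator_le.mpr fun u hu v _ => ?_ : _ ≤ _) hc')
  refine PGrp.mem_omegaOne_of_pow (mem_top _) ((hr.commute_pow_iff hM j u v).mp (Subtype.ext ?_))
  have := congrArg Subtype.val (hr.pow_pow_eq_one_of_mem_omegaOne hM _ ⊤ u hu)
  exact (hc _ (M.pow_mem u.2 _) (by rw [← pow_mul, ← pow_succ]; exact this) v v.2).eq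

/-- In a regular `p`-group with central `Ω₁`, an eigenvalue on a quotient of order `p` occurs on `Ω₁`. -/
theorem eigen_of_weakReg [Finite M] (hM : IsPGroup p M) (hr : PGrp.WeakReg p M)
    (hc : ∀ y ∈ M, y ^ p = 1 → ∀ g ∈ M, Commute y g) (hσ : HomOn M σ) (hm : ∀ y ∈ M, σ y ∈ M)
    {θ : Ω → ZMod p} (hθ : ∀ u ∈ M, ∀ v ∈ M, θ (u * v) = θ u + θ v) {μ : ZMod p}
    (hμ : ∀ y ∈ M, θ (σ y) = μ * θ y) {l₁ l₂ : ℕ} (h1 : ∀ y ∈ M, y ^ p = 1 → (y ^ l₁)⁻¹ * σ y ∈ Z)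
    (h2 : ∀ z ∈ Z, σ z = z ^ l₂) {t : Ω} (ht : t ∈ M) (h0 : θ t ≠ 0) : (μ - l₂) * (μ - l₁) = 0 := by
  classical
  have hex : ∃ k, ∃ t ∈ M, θ t ≠ 0 ∧ t ^ p ^ k = 1 :=
    let ⟨k, hk⟩ := hM ⟨t, ht⟩; ⟨k, t, ht, h0, congrArg Subtype.val hk⟩
  obtain ⟨t, ht, h0, hk⟩ := Nat.find_spec hex
  have hmin := fun k => Nat.find_min hex (m := k)
  obtain ⟨j, hj⟩ : ∃ j, Nat.find hex = j + 1 := Nat.exists_eq_succ_of_ne_zero fun e => by
    rw [e, pow_zero, pow_one] at hk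
    exact h0 (hk ▸ co_one hθ)
  rw [hj] at hk hmin
  have step : ∀ (l : ℕ), ∀ t ∈ M, t ^ p ^ (j + 1) = 1 → ((t ^ l)⁻¹ * σ t) ^ p ^ (j + 1) = 1 ∧
      ((t ^ l)⁻¹ * σ t) ^ p ^ j = ((t ^ p ^ j) ^ l)⁻¹ * σ (t ^ p ^ j) ∧ θ ((t ^ l)⁻¹ * σ t) = (μ - l) * θ t :=
    fun l t ht e => by
      have m := M.inv_mem (M.pow_mem ht l)
      obtain ⟨a, b⟩ := weakReg_mul_pow hM hr j hc m (hm t ht)
        (by rw [inv_pow, ← pow_mul, mul_comm, pow_mul, e, one_pow, inv_one])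
        (by rw [← hσ.map_pow ht, e, hσ.map_one])
      refine ⟨a, by rw [b, hσ.map_pow ht, inv_pow, ← pow_mul, ← pow_mul, mul_comm l], ?_⟩
      rw [hθ _ m _ (hm t ht), co_inv hθ (M.pow_mem ht l), co_pow hθ ht, hμ t ht]; ring
  obtain ⟨a1, a2, a3⟩ := step l₁ t ht hk
  have m1 := M.mul_mem (M.inv_mem (M.pow_mem ht l₁)) (hm t ht)
  obtain ⟨-, b2, b3⟩ := step l₂ _ m1 a1
  have mZ := h1 _ (M.pow_mem ht (p ^ j)) (by rw [← pow_mul, ← pow_succ, hk])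
  rw [a2, h2 _ mZ, inv_mul_cancel] at b2
  by_contra hne
  refine hmin j (Nat.lt_succ_self j) ⟨_, M.mul_mem (M.inv_mem (M.pow_mem m1 l₂)) (hm _ m1), ?_, b2⟩
  rw [b3, a3, ← mul_assoc]
  exact mul_ne_zero hne h0

theorem Pl.comm_mem (h : Pl p Z W V w x φ ψ) {u v : Ω} (hu : u ∈ V) (hv : v ∈ V) : ⁅u, v⁆ ∈ Z := by
  have m1 := V.mul_mem hu hv
  have m2 := V.mul_mem m1 (V.inv_mem hu)
  refine h.mem_Y (V.mul_mem m2 (V.inv_mem hv)) ?_ ?_
  · rw [commutatorElement_def, h.add1 _ m2 _ (V.inv_mem hv), h.add1 _ m1 _ (V.inv_mem hu), h.add1 _ hu _ hv,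
      co_inv h.add1 hu, co_inv h.add1 hv]; ring
  · rw [commutatorElement_def, h.add2 _ m2 _ (V.inv_mem hv), h.add2 _ m1 _ (V.inv_mem hu), h.add2 _ hu _ hv,
      co_inv h.add2 hu, co_inv h.add2 hv]; ring

/-- The additive function `g ↦ φ (g x g⁻¹)` on a group normalizing the flag. -/
theorem Pl.add_cj [Finite T] (h : Pl p Z W V w x φ ψ) (hT : IsPGroup p T) (hV : V ≤ T)
    (n1 : T ≤ normalizer (Z : Set Ω)) (n2 : T ≤ normalizer (W : Set Ω)) (n3 : T ≤ normalizer (V : Set Ω)) :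
    ∀ u ∈ T, ∀ v ∈ T, φ (u * v * x * (u * v)⁻¹) = φ (u * x * u⁻¹) + φ (v * x * v⁻¹) := fun u hu v hv => by
  have a := h.act_cj hT hV hu (n1 hu) (n2 hu) (n3 hu)
  have b := h.act_cj hT hV hv (n1 hv) (n2 hv) (n3 hv)
  have := (a.mul b).e1 x h.hx
  rw [← map_mul, cj_apply, h.φx, h.ψx] at this
  rw [this]; ring

theorem Pl.eigen_center (h : Pl p Z W V w x φ ψ) (hZ : Nat.card Z = p) (hc : ∀ z ∈ Z, ∀ g ∈ V, Commute z g)
    (hne : ⁅x, w⁆ ≠ 1) (hσ : HomOn V σ) {α β γ : ZMod p} (ha : PAct Z V φ ψ σ β γ 0 α) :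
    ∀ z ∈ Z, σ z = z ^ (α.val * β.val) := by
  have hz := h.comm_mem h.hx h.sU
  have key : σ ⁅x, w⁆ = ⁅x, w⁆ ^ (α.val * β.val) := by
    obtain ⟨y, hy, e⟩ := h.dec (ha.mU x h.hx)
    obtain ⟨y', hy', e'⟩ := h.dec (ha.mU w h.sU)
    rw [ha.e2 x h.hx, h.φx, h.ψx] at e
    rw [ha.e1 w h.sU, ha.e2 w h.sU, h.φs, h.ψs] at e'
    simp only [mul_zero, zero_add, mul_one, add_zero, ZMod.val_zero, pow_zero] at e e'
    have mw := fun n : ℕ => V.pow_mem h.sU n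
    have mx := fun n : ℕ => V.pow_mem h.hx n
    have c1 := (hc y hy _ (mw β.val)).eq
    have c2 := hc y' hy'
    have c3 : ⁅x ^ α.val, w ^ β.val⁆ = ⁅x, w⁆ ^ (α.val * β.val) := by
      rw [PGrp.commutator_pow_left (hc _ (h.comm_mem h.hx (mw _)) x h.hx),
        PGrp.commutator_pow_right (hc _ hz w h.sU), ← pow_mul, mul_comm]
    have c4 := (hc _ (h.comm_mem (mx α.val) (mw β.val)) _ (mw (φ (σ x)).val)).eq
    rw [hσ.map_commutatorElement h.hx h.sU, ← c3]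
    generalize (φ (σ x)).val = i at e c4
    have e2 : ⁅σ x, σ w⁆ = ⁅σ x, w ^ β.val⁆ := by
      rw [e', commutatorElement_def, commutatorElement_def, mul_inv_rev, ← mul_assoc, ← mul_assoc,
        mul_assoc _ y', (c2 _ (V.inv_mem (ha.mU x h.hx))).eq]
      group
    rw [e2, e]
    have e3 : ⁅w ^ i * x ^ α.val * y, w ^ β.val⁆ = w ^ i * ⁅x ^ α.val, w ^ β.val⁆ * (w ^ i)⁻¹ := by
      rw [commutatorElement_def, commutatorElement_def, mul_assoc _ y, c1]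
      group
    rw [e3, ← c4, mul_inv_cancel_right]
  intro z hz'
  rw [← zpowers_eq_of_card hZ hz hne] at hz'
  obtain ⟨i, rfl⟩ := mem_zpowers_iff.mp hz'
  rw [hσ.map_zpow (h.YU hz), key, ← zpow_natCast, ← zpow_natCast, ← zpow_mul, ← zpow_mul, mul_comm]

/-- Automorphisms of a group of rank two with `Ω₁` extraspecial and not a central factor. -/
theorem Pl.sq_eq_one [Finite T] (hp3 : 3 < p) (h : Pl p Z W V w x φ ψ) (hT : IsPGroup p T) (hV : V ≤ T)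
    (hΩ : ∀ y ∈ T, y ^ p = 1 → y ∈ V) (hZ : Nat.card Z = p) (n1 : T ≤ normalizer (Z : Set Ω))
    (n2 : T ≤ normalizer (W : Set Ω)) (n3 : T ≤ normalizer (V : Set Ω)) (hne : ⁅x, w⁆ ≠ 1) {a : Ω} (ha : a ∈ T)
    (ha0 : φ (a * x * a⁻¹) ≠ 0) (hσ : HomOn T σ) (hm : ∀ y ∈ T, σ y ∈ T) {α β γ : ZMod p}
    (act : PAct Z V φ ψ σ β γ 0 α) (hα : α ≠ 0) (hβ : β ≠ 0) : α ^ 2 = 1 := by
  have hZT := h.YU.trans hV
  have hwT := hV h.sU
  have hc : ∀ z ∈ Z, ∀ g ∈ T, Commute z g := fun z hz g hg =>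
    (mul_inv_eq_iff_eq_mul.mp (conj_eq_of_card_le hT hZT hZ.le hg (n1 hg) hz)).symm
  have cen : ∀ {g y : Ω}, g ∈ centralizer ({y} : Set Ω) ↔ Commute g y := by
    intro g y; rw [mem_centralizer_singleton_iff]; rfl
  have actT := fun g (hg : g ∈ T) => h.act_cj hT hV hg (n1 hg) (n2 hg) (n3 hg)
  have hxw : x ∉ centralizer ({w} : Set Ω) := fun e => hne (commutatorElement_eq_one_iff_commute.mpr (cen.mp e))
  have ip := ip_centralizer hT le_rfl hZT hZ.le hwT (fun g hg => by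
    have m := h.inv_mul_mem h.sU (conj_mem_of_mem_normalizer (n3 hg) h.sU)
      (by simpa [h.ψs] using (actT g hg).e1 w h.sU) (by simpa using (actT g hg).e2 w h.sU)
    simpa [commutatorElement_def, mul_assoc] using h.ip1.conj_mem h.hs m) fun e => hxw (e (hV h.hx))
  obtain ⟨M, hM⟩ : ∃ M, M = T ⊓ centralizer ({w} : Set Ω) := ⟨_, rfl⟩
  rw [← hM] at ip
  have memM : ∀ {g}, g ∈ M ↔ g ∈ T ∧ Commute g w := by intro g; rw [hM, mem_inf, cen]
  have hMT := ip.le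
  have := finite_of_le hMT
  have WM : ∀ g ∈ T, ∀ y ∈ W, y ∉ Z → Commute y g → W ≤ centralizer ({g} : Set Ω) := fun g hg y hy hy' c =>
    h.ip1.le_of_mem hy hy' (fun z hz => cen.mpr (hc z hz g hg)) (cen.mpr c)
  have hΩM : ∀ y ∈ M, y ^ p = 1 → y ∈ W := fun y hy e => by
    by_contra hy'
    exact hxw (h.ip2.le_of_mem (hΩ y (hMT hy) e) hy' (WM w hwT w h.hs h.s_not (Commute.refl w))
      (cen.mpr (memM.mp hy).2) h.hx)
  have hσw : φ (σ w) = β := by simpa [h.φs, h.ψs] using act.e1 w h.sU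
  have hσW : ∀ y ∈ W, σ y ∈ W := fun y hy =>
    (h.ker2 _ (act.mU y (h.ip2.le hy))).mp (by simpa [h.ψL hy] using act.e2 y (h.ip2.le hy))
  have add := h.add_cj hT hV n1 n2 n3
  obtain ⟨t, ht, i, e⟩ := ip.dec x (hV h.hx) (fun e => hxw (cen.mpr (memM.mp e).2)) a ha
  have ht0 : φ (t * x * t⁻¹) ≠ 0 := by
    rw [e, add t (hMT ht) _ (T.zpow_mem (hV h.hx) i), (Commute.refl x).zpow_left i, mul_inv_cancel_right, h.φx,
      add_zero] at ha0
    exact ha0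
  have := finite_of_le (h.ip2.le.trans hV)
  have hr : PGrp.WeakReg p M := PGrp.weakReg_of_isMetacyclic (by omega) (hT.to_le hMT)
    (PGrp.isMetacyclic_of_card_omegaOne_le hp3 (hT.to_le hMT) (by
      rw [PGrp.card_omegaOne_top_subgroup, sq]
      exact (card_le_of_le (PGrp.omegaOne_le_iff.mpr hΩM)).trans (by rw [h.ip1.card, hZ])))
  have key := eigen_of_weakReg (Z := Z) (hT.to_le hMT) hr
    (fun y hy e g hg => cen.mp (WM g (hMT hg) w h.hs h.s_not (memM.mp hg).2.symm (hΩM y hy e))) (hσ.mono hMT)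
    (fun y hy => memM.mpr ⟨hm y (hMT hy), (cen.mp (WM _ (hm y (hMT hy)) (σ w) (hσW w h.hs)
      (fun e => hβ (hσw ▸ h.φY e)) (by
        rw [Commute, SemiconjBy, ← hσ.map_mul hwT (hMT hy), ← hσ.map_mul (hMT hy) hwT, (memM.mp hy).2.eq])
      h.hs)).symm⟩)
    (θ := fun g => φ (g * x * g⁻¹)) (fun u hu v hv => add u (hMT hu) v (hMT hv)) (μ := β / α)
    (fun g hg => by
      have hg := hMT hg
      have e1 := (actT _ (hm g hg)).e1 _ (act.mU x h.hx)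
      have e2 := act.e1 _ ((actT g hg).mU x h.hx)
      rw [(actT g hg).e2 x h.hx, cj_apply, hσ.map_conj hg (hV h.hx), h.φx, h.ψx] at e2
      rw [cj_apply, e2, act.e1 x h.hx, act.e2 x h.hx, h.φx, h.ψx] at e1
      field_simp
      linear_combination -e1)
    (l₁ := β.val) (fun y hy e => by
      have m := h.ip2.le (hΩM y hy e)
      have e0 := h.ψL (hΩM y hy e)
      exact h.inv_mul_mem (V.pow_mem m _) (act.mU y m) (by rw [act.e1 y m, co_pow h.add1 m, e0]; simp)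
        (by rw [act.e2 y m, co_pow h.add2 m, e0]; simp))
    (h.eigen_center hZ (fun z hz g hg => hc z hz g (hV hg)) hne (hσ.mono hV) act) ht ht0
  push_cast at key
  simp only [ZMod.natCast_val, ZMod.cast_id', id_eq] at key
  rcases mul_eq_zero.mp key with e | e
  · field_simp at e
    have : β * (1 - α ^ 2) = 0 := by linear_combination e
    linear_combination -(mul_eq_zero.mp this).resolve_left hβ
  · field_simp at e
    have : β * (1 - α) = 0 := by linear_combination e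
    have := (mul_eq_zero.mp this).resolve_left hβ
    linear_combination (-1 - α) * this

theorem two_sq_ne_one (hp3 : 3 < p) : (2 : ZMod p) ≠ 0 ∧ (2 : ZMod p) ^ 2 ≠ 1 := by
  refine ⟨fun e => ?_, fun e => ?_⟩
  · have := Nat.le_of_dvd two_pos ((ZMod.natCast_eq_zero_iff 2 p).mp (by simpa using e))
    omega
  · have := Nat.le_of_dvd three_pos ((ZMod.natCast_eq_zero_iff 3 p).mp (by push_cast; linear_combination e))
    omega

variable {S E : Subgroup Ω} [Finite S] {F : FusionSystem S}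

theorem Iso.mem_center {V : Subgroup Ω} (h : Iso F V V σ) : ∀ z ∈ centralizerIn V V, σ z ∈ centralizerIn V V :=
  fun z hz => (h.mem_centralizerIn_iff le_rfl h z).mpr hz

theorem fix_of_omega (hp2 : p ≠ 2) (hS : IsPGroup p S) (hE : E ≤ S) {U : Subgroup Ω}
    (hU : ∀ y ∈ E, y ^ p = 1 → y ∈ U) : ∀ τ, Iso F E E τ → PP p E τ → τ ∈ fixP U → τ ∈ fixP E := fun τ h1 h2 h3 =>
  have := finite_of_le hE
  h2.fix_of_small h1.mem_autAll (hS.to_le hE) fun y hy e => mem_fixP.mp h3 y (hU y hy (by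
    rcases sme_cases p with h | h
    · rwa [h.2] at e
    · exact absurd h.1 hp2))

/-- An essential subgroup meeting a strongly closed `Ω₁(S)` of order `p³` properly has order `p²`. -/
theorem Sat.le_of_not_le (hF : Sat p F) (hp2 : p ≠ 2) (hE : F.IsEssential p E) (hV : ∀ y, y ∈ V ↔ y ∈ S ∧ y ^ p = 1)
    (hc : Nat.card V = p ^ 3) (h : ¬ V ≤ E) : E ≤ V ∧ Nat.card E = p ^ 2 := by
  have hS := hF.pg
  have hES : E ≤ S := hE.1.1
  have hVS : V ≤ S := fun y hy => ((hV y).mp hy).1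
  have := finite_of_le hES
  have := finite_of_le hVS
  have nV : S ≤ Subgroup.normalizer (V : Set Ω) := le_normalizer_of_conj_mem fun g hg y hy =>
    (hV _).mpr ⟨S.mul_mem (S.mul_mem hg (hVS hy)) (S.inv_mem hg), by rw [conj_pow, ((hV y).mp hy).2]; simp⟩
  obtain ⟨g, hg, hgE, hgn⟩ := exists_mem_normalizer_not_mem hS hES hVS (hES.trans nV) h
  have hU : ∀ τ, Iso F E E τ → ∀ u ∈ E ⊓ V, τ u ∈ E ⊓ V := fun τ k u hu => mem_inf.mpr ⟨k.mem hu.1,
    (hV _).mpr ⟨hES (k.mem hu.1), by rw [← k.homOn.map_pow hu.1, ((hV u).mp hu.2).2, k.homOn.map_one]⟩⟩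
  have hK := fix_of_omega (F := F) hp2 hS hES (U := E ⊓ V) fun y hy e => mem_inf.mpr ⟨hy, (hV y).mpr ⟨hES hy, e⟩⟩
  have hB : ∀ τ, Iso F E E τ → ∀ u ∈ (⊥ : Subgroup Ω), τ u ∈ (⊥ : Subgroup Ω) := fun τ k u hu => by
    rw [mem_bot.mp hu, k.homOn.map_one]; exact (⊥ : Subgroup Ω).one_mem
  have lU : E ⊓ V ≤ S := inf_le_left.trans hES
  have := finite_of_le lU
  have cU : Nat.card ↥(E ⊓ V) = p ^ 2 := by
    have h1 := card_lt_of_lt (lt_of_le_of_ne (inf_le_right : E ⊓ V ≤ V) fun e => h (inf_eq_right.mp e))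
    obtain ⟨k, hk⟩ := IsPGroup.iff_card.mp (hS.to_le lU)
    rw [hk, hc, Nat.pow_lt_pow_iff_right hp.out.one_lt] at h1
    by_contra h2
    have h3 : Nat.card ↥(E ⊓ V) ≤ p := by
      have : k ≠ 2 := fun e => h2 (e ▸ hk)
      rw [hk]; simpa using Nat.pow_le_pow_right hp.out.pos (show k ≤ 1 by omega)
    refine hgE (essential_mem hS hE (hVS hg) (mem_opP_of_two hS bot_le inf_le_left hB hU hK
      (iso_cj F hES (hVS hg) hgn) (fun y hy => by rw [mem_bot.mp hy]; simp) fun u hu => ?_))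
    rw [cj_apply, conj_eq_of_card_le hS lU h3 (hVS hg) (mem_normalizer_of_inv inf_le_left hU hES ⟨hVS hg, hgn⟩) hu]
    simp
  suffices E ≤ V from ⟨this, by rwa [inf_eq_left.mpr this] at cU⟩
  obtain ⟨D, hD⟩ : ∃ D, D = (frattini E).map E.subtype ⊓ (E ⊓ V) := ⟨_, rfl⟩
  have lD : D ≤ E ⊓ V := hD ▸ inf_le_right
  have := finite_of_le lD
  have h0 : D = ⊥ := by
    by_contra h0
    have h1 : D ≠ E ⊓ V := fun e => by
      refine hgE (essential_mem hS hE (hVS hg) (mem_opP_of_frattini hS (iso_cj F hES (hVS hg) hgn) fun y hy => ?_))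
      have : y⁻¹ * (g * y * g⁻¹) ∈ D := e ▸ mem_inf.mpr ⟨E.mul_mem (E.inv_mem hy) (conj_mem_of_mem_normalizer hgn hy),
        by simpa [mul_assoc] using V.mul_mem (inv_conj_mem_of_mem_normalizer (nV (hES hy)) hg) (V.inv_mem hg)⟩
      exact (hD ▸ this).1
    have h2 := mul_card_le_of_lt' (hS.to_le lU) (lt_of_le_of_ne lD h1)
    have h3 := mul_card_le_of_lt' (hS.to_le (lD.trans lU)) (bot_lt_iff_ne_bot.mpr h0)
    rw [cU, sq] at h2
    have h4 := Nat.le_of_mul_le_mul_left h2 hp.out.pos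
    rw [card_bot, mul_one] at h3
    refine hF.not_inv_line hE (ip_of_card (hS.to_le (lD.trans lU)) bot_le (by rw [card_bot]; omega))
      (ip_of_card (hS.to_le lU) lD (by rw [cU, le_antisymm h4 h3, sq])) inf_le_left hB hU
      (fun g _ y hy => by rw [mem_bot.mp hy]; simp) hK fun τ k u hu => ?_
    rw [hD] at hu ⊢
    exact mem_inf.mpr ⟨mem_map_of_characteristic k.mem_autAll _ u hu.1, hU τ k u hu.2⟩
  intro y hy
  refine (hV y).mpr ⟨hES hy, ?_⟩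
  by_contra h1
  obtain ⟨k, hk⟩ := hS ⟨y ^ p, S.pow_mem (hES hy) p⟩
  obtain ⟨j, h2, h3⟩ := exists_pow_not_mem (P := ⊥) (mt mem_bot.mp h1) (mem_bot.mpr (congrArg Subtype.val hk))
  have m := E.pow_mem (E.pow_mem hy p) (p ^ j)
  refine h2 (h0 ▸ hD ▸ mem_inf.mpr ⟨Subgroup.pow_mem _ ?_ _, mem_inf.mpr ⟨m, (hV _).mpr ⟨hES m, mem_bot.mp h3⟩⟩⟩)
  exact ⟨_, PGrp.pow_mem_frattini (hS.to_le hES) ⟨y, hy⟩, rfl⟩

theorem bot_inv : ∀ τ, Iso F E E τ → ∀ u ∈ (⊥ : Subgroup Ω), τ u ∈ (⊥ : Subgroup Ω) := fun τ k u hu => by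
  rw [mem_bot.mp hu, k.homOn.map_one]; exact (⊥ : Subgroup Ω).one_mem

theorem Sat.not_essential_of_cube (hF : Sat p F) (hp3 : 3 < p) (hV : ∀ y, y ∈ V ↔ y ∈ S ∧ y ^ p = 1)
    (hc : Nat.card V = p ^ 3) (hn : ¬ IsMulCommutative V) (hSV : V ≠ S) : ¬ F.IsEssential p E := fun hE => by
  have hS := hF.pg
  have hES : E ≤ S := hE.1.1
  have hVS : V ≤ S := fun y hy => ((hV y).mp hy).1
  have := finite_of_le hES
  have := finite_of_le hVS
  have hp2 : p ≠ 2 := by omega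
  obtain ⟨t1, t2⟩ := two_sq_ne_one hp3
  have nV : S ≤ Subgroup.normalizer (V : Set Ω) := le_normalizer_of_conj_mem fun g hg y hy =>
    (hV _).mpr ⟨S.mul_mem (S.mul_mem hg (hVS hy)) (S.inv_mem hg), by rw [conj_pow, ((hV y).mp hy).2]; simp⟩
  obtain ⟨Z, hZ⟩ : ∃ Z, Z = centralizerIn V V := ⟨_, rfl⟩
  have cZ : Nat.card Z = p := hZ ▸ card_center_of_cube hc hn
  have lZ : Z ≤ V := hZ ▸ centralizerIn_le V V
  have := finite_of_le lZ
  have iZ : ∀ τ, Iso F V V τ → ∀ z ∈ Z, τ z ∈ Z := fun τ k => hZ ▸ k.mem_center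
  have nZ : S ≤ Subgroup.normalizer (Z : Set Ω) := le_normalizer_of_conj_mem fun g hg =>
    iZ _ (iso_cj F hVS hg (nV hg))
  have cen : ∀ g ∈ S, ∀ z ∈ Z, g * z * g⁻¹ = z := fun g hg z hz =>
    conj_eq_of_card_le hS (lZ.trans hVS) cZ.le hg (nZ hg) hz
  have cen' : ∀ g ∈ S, Z ≤ Subgroup.centralizer ({g} : Set Ω) := fun g hg z hz =>
    mem_centralizer_singleton_iff.mpr (mul_inv_eq_iff_eq_mul.mp (cen g hg z hz)).symm
  have hNS := normalizerIn_le S E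
  have := finite_of_le hNS
  by_cases hVE : V ≤ E
  · have hU : ∀ τ, Iso F E E τ → ∀ u ∈ V, τ u ∈ V := fun τ k u hu =>
      (hV _).mpr ⟨hES (k.mem (hVE hu)), by rw [← k.homOn.map_pow (hVE hu), ((hV u).mp hu).2, k.homOn.map_one]⟩
    obtain ⟨L, s, x, φ, ψ, hP, nL, ip, h0, -, hd⟩ := hF.exists_diag hE lZ hVE
      (fun τ k => iZ τ ((k.mor.mono hVE).iso_self (hU τ k))) hU (by rw [hc, cZ]; ring)
      (fun g hg => cen g hg.1) (fix_of_omega hp2 hS hES fun y hy e => (hV y).mpr ⟨hES hy, e⟩)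
    obtain ⟨h, b, i1, -, -, act⟩ := hd 2 t1
    obtain ⟨a, ha, ha'⟩ := ip.exists_not_mem
    refine t2 (hP.sq_eq_one hp3 (hS.to_le hNS) (hVE.trans ip.le) (fun y hy e => (hV y).mpr ⟨hNS hy, e⟩) cZ
      (hNS.trans nZ) nL (hNS.trans nV) (fun e => hP.x_not (hP.ip1.le ?_)) ha (h0 a ha ha') i1.homOn
      (fun y hy => i1.mem hy) act t1 (inv_ne_zero t1))
    have := hP.ip2.le_of_mem hP.hx hP.x_not (hP.ip1.le_of_mem hP.hs hP.s_not (cen' x (hVS hP.hx))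
      (mem_centralizer_singleton_iff.mpr (commutatorElement_eq_one_iff_commute.mp e).symm.eq))
      (mem_centralizer_singleton_iff.mpr rfl)
    exact hZ ▸ mem_center_iff'.mpr ⟨hP.hx, fun g hg => by rw [mem_centralizer_singleton_iff.mp (this hg)]; group⟩
  obtain ⟨hEV, cE⟩ := hF.le_of_not_le hp2 hE hV hc hVE
  obtain ⟨L, s, x, φ, ψ, hP, nL, ip, -, -, hd⟩ := hF.exists_diag hE bot_le le_rfl bot_inv
    (fun τ k u hu => k.mem hu) (by rw [cE, card_bot, mul_one]) (fun g _ y hy => by rw [mem_bot.mp hy]; simp)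
    fun _ _ _ h => h
  have iEV : Ip p E V := ip_of_card (hS.to_le hVS) hEV (by rw [hc, cE]; ring)
  have hN : normalizerIn S E = V :=
    ((ip.eq_or_eq hEV fun y hy => ⟨hVS hy, iEV.norm hy⟩).resolve_left fun e => hVE e.le).symm
  rw [hN] at nL hd
  have cL : Nat.card L = p := by rw [hP.ip1.card, card_bot, mul_one]
  have hLZ : L = Z := eq_of_le_of_card_le' (fun y hy => hZ ▸ mem_center_iff'.mpr ⟨hEV (hP.ip2.le hy), fun g hg =>
    conj_eq_of_card_le hS (hP.ip2.le.trans hES) cL.le (hVS hg) (nL hg) hy⟩) (by rw [cL, cZ])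
  subst hLZ
  obtain ⟨W, iW, lW, nW⟩ := exists_ip_normal hS (hP.ip2.lt.trans iEV.lt) hVS nZ nV
  have := finite_of_le lW
  have cW : Nat.card W = Nat.card E := by rw [iW.card, hP.ip2.card]
  have iWV : Ip p W V := ip_of_card (hS.to_le hVS) lW (by rw [cW, iEV.card])
  have hWE : W ≠ E := fun e => hSV (by rw [← hN, normalizerIn_eq_of_le (e ▸ nW)])
  obtain ⟨w, hw, hw'⟩ := SetLike.not_le_iff_exists.mp fun e => hWE (eq_of_le_of_card_le' e cW.ge)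
  have hx' : x ∉ W := fun e =>
    hWE (eq_of_le_of_card_le' (hP.ip2.le_of_mem hP.hx hP.x_not iW.le e) cW.le).symm
  obtain ⟨φ', ψ', hQ, hφ⟩ := exists_pl iW iWV iEV hP.ip2.le hw hw' hP.hx hx'
  obtain ⟨a, ha, ha'⟩ := SetLike.not_le_iff_exists.mp fun e => hSV (le_antisymm hVS e)
  have isoV := fun g (hg : g ∈ S) => iso_cj F hVS hg (nV hg)
  have toE : ∀ {τ R y}, Iso F V V τ → Ip p L R → R ≤ V → y ∈ R → y ∉ L → τ y ∈ E → ∀ u ∈ R, τ u ∈ E := by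
    intro τ R y k i l hy hy' e u hu
    exact ((k.homOn.mem_pre).mp (i.le_of_mem hy hy' (H := k.homOn.pre E)
      (fun z hz => k.homOn.mem_pre.mpr ⟨lZ hz, hP.ip2.le (iZ τ k z hz)⟩) (k.homOn.mem_pre.mpr ⟨l hy, e⟩) hu)).2
  have ha0 : φ' (a * x * a⁻¹) ≠ 0 := fun e => ha' (hN ▸ mem_normalizerIn.mpr ⟨ha, mem_normalizer_of_conj_mem_finite
    (toE (isoV a ha) hP.ip2 hEV hP.hx hP.x_not ((hφ _ ((isoV a ha).mem hQ.hx)).mp e))⟩)
  have iw : ∀ τ, Iso F V V τ → ∀ u ∈ W, τ u ∈ W := fun τ k u hu => by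
    have hτw : τ w ∈ W := by
      by_contra h1
      have m := k.mem hQ.sU
      have h2 : ψ' (τ w) ≠ 0 := fun e => h1 ((hQ.ker2 _ m).mp e)
      obtain ⟨n, hn⟩ : ∃ n : ℕ, (n : ZMod p) = -φ' (τ w) / (φ' (a * x * a⁻¹) * ψ' (τ w)) :=
        ⟨_, ZMod.natCast_zmod_val _⟩
      have h3 := ((hQ.act_cj hS hVS ha (nZ ha) (nW ha) (nV ha)).pow_up n).e1 _ m
      have k' := k.trans ((isoV a ha).pow n)
      have h4 := toE k' iW lW hw hQ.s_not ((hφ _ (k'.mem hQ.sU)).mp (by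
        rw [Perm.mul_apply, h3, hn]; field_simp; ring))
      have h5 := (isFullyNormalized_iff.mp hE.2.1).2 W _ ((k'.mor.mono lW).iso_of_card_le h4 cW.ge).symm
      rw [hN, normalizerIn_eq_of_le nW] at h5
      exact hSV (eq_of_le_of_card_le' hVS h5)
    exact ((k.homOn.mem_pre).mp (iW.le_of_mem hw hQ.s_not (H := k.homOn.pre W)
      (fun z hz => k.homOn.mem_pre.mpr ⟨lZ hz, iW.le (iZ τ k z hz)⟩) (k.homOn.mem_pre.mpr ⟨lW hw, hτw⟩) hu)).2
  obtain ⟨h, b, i1, -, -, act⟩ := hd 2 t1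
  obtain ⟨τ, hτ, e⟩ := hF.extend_opP (isFullyNormalized_of_normal F hVS nV) i1
  have hτS : Mor F S τ := hτ.mono fun g hg => mem_sup_right (mem_normK.mpr ⟨hg,
    cj_mem_opP_of_flag hS hVS iW iWV le_rfl iZ iw (fun τ k u hu => k.mem hu) (fun _ _ _ h => h) ⟨hg, nV hg⟩
      (cen g hg)⟩)
  have i2 := i1.congr e
  have act' := hQ.act i2.homOn (fun u hu => i2.mem hu) (iZ τ i2)
  have x2 := E.pow_mem hP.hx 2
  have e2 : ψ' (τ x) = 2 := by
    have m := act.mU x hP.hx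
    have : (x ^ 2)⁻¹ * h x ∈ L := (hP.ker2 _ (E.mul_mem (E.inv_mem x2) m)).mp (by
      rw [hP.add2 _ (E.inv_mem x2) _ m, co_inv hP.add2 x2, co_pow hP.add2 hP.hx, act.e2 x hP.hx, hP.ψx]; simp)
    rw [e x hQ.hx, hQ.eq2 (hEV x2) (hEV m) (iW.le this), co_pow hQ.add2 hQ.hx, hQ.ψx]; simp
  refine t2 (hQ.sq_eq_one hp3 hS hVS (fun y hy e => (hV y).mpr ⟨hy, e⟩) cZ nZ nW nV (fun e => hw' ?_) ha ha0
    hτS.homOn (fun y hy => hτS.mem hy) (act'.congr rfl rfl (hQ.ψL (iw τ i2 w hw)) e2) t1 fun e => hQ.s_not ?_)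
  · have := hP.ip2.le_of_mem hP.hx hP.x_not (cen' w (hVS hQ.sU))
      (mem_centralizer_singleton_iff.mpr (commutatorElement_eq_one_iff_commute.mp e).eq)
    exact centric_centralizerIn_le hE.1 (mem_centralizerIn'.mpr ⟨hVS hQ.sU, fun y hy => by
      rw [← mem_centralizer_singleton_iff.mp (this hy)]; group⟩)
  · simpa using i2.inv_mapsTo lZ (iZ τ i2) _ ((hQ.ker1 _ (iw τ i2 w hw)).mp e)

theorem Sat.normal_of_rank_two (hF : Sat p F) (hp3 : 3 < p)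
    (hr : ∀ E ≤ S, IsElementaryAbelian p E → Nat.card E ≤ p ^ 2)
    (hne : ¬ (Nat.card S = p ^ 3 ∧ Monoid.exponent S = p)) : F.IsNormal S := by
  have hS := hF.pg
  have hr' : PRankLE p 2 S := PGrp.pRankLE_subgroup_iff.mpr hr
  have l := PGrp.omegaOne_le p S
  have := finite_of_le l
  have hVp : ∀ y ∈ omegaOne p S, y ^ p = 1 := fun y hy => by
    rw [← PGrp.map_subtype_omegaOne_top] at hy
    obtain ⟨y, hy, rfl⟩ := hy
    exact congrArg Subtype.val (PGrp.pow_eq_one_of_rank_two hp3 hS hr' y hy)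
  by_cases hc : Nat.card (omegaOne p S) ≤ p ^ 2
  · exact hF.normal_of_metacyclic (sc_top F) (PGrp.isMetacyclic_of_card_omegaOne_le hp3 hS
      (by rwa [PGrp.card_omegaOne_top_subgroup])) fun e => by omega
  have h3 : Nat.card (omegaOne p S) = p ^ 3 := by
    have := PGrp.card_le_cube_of_rank_two (hS.to_le l) (PGrp.pRankLE_mono l hr') fun y => Subtype.ext (hVp y y.2)
    obtain ⟨k, hk⟩ := IsPGroup.iff_card.mp (hS.to_le l)
    rw [hk, Nat.pow_le_pow_iff_right hp.out.one_lt] at this hc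
    rw [hk, show k = 3 by omega]
  refine hF.normal_top_of fun R => hF.not_essential_of_cube hp3
    (fun y => ⟨fun hy => ⟨l hy, hVp y hy⟩, fun hy => PGrp.mem_omegaOne_of_pow hy.1 hy.2⟩) h3
    (fun e => hc (hr _ l ⟨e, hVp⟩)) fun e => hne ⟨e ▸ h3, ?_⟩
  rw [e] at hVp h3
  have : Nontrivial S := Finite.one_lt_card_iff_nontrivial.mp (h3 ▸ Nat.one_lt_pow three_ne_zero hp.out.one_lt)
  exact (Monoid.exponent_eq_prime_iff hp.out).mpr fun g hg => orderOf_eq_prime (Subtype.ext (hVp g g.2)) hg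

end Cfsg.Lib.Fus
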